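import Mathlib
import Cfsg.Agent.Lib.PGroup.ConjAbM
import Cfsg.Agent.Lib.Hall.CoprimeSylow

/-! Groups in which every subgroup of even order that is not a `2`-group has order divisible
by `p`: basic lemmas. -/

set_option autoImplicit false

namespace Cfsg.Agent.Lib.MixP

open Subgroup
open scoped Pointwise

universe u

variable {G : Type u} [Group G]

/-- The mixing hypothesis. -/
def Mix (p q : ℕ) (G : Type u) [Group G] : Prop :=
  ∀ H : Subgroup G, H ≠ ⊤ → ¬ IsPGroup q H → q ∣ Nat.card H → p ∣ Nat.card H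

theorem mix_core [Finite G] {p q r : ℕ} (hp : p.Prime) (hq : q.Prime) (hr : r.Prime) (hpq : p ≠ q)
    (hrq : r ≠ q) (hpG : p ∣ Nat.card G) (hmix : Mix p q G) {X R : Subgroup G} (hX : IsPGroup q X)
    (hqX : q ∣ Nat.card X) (hR : IsPGroup r R) (hrR : r ∣ Nat.card R)
    (hnorm : X ≤ normalizer (R : Set G) ∨ R ≤ normalizer (X : Set G)) : r = p := by
  haveI := Fact.mk hq
  haveI := Fact.mk hr
  have hcop : (Nat.card X).Coprime (Nat.card R) := by
    obtain ⟨a, ha⟩ := IsPGroup.iff_card.1 hX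
    obtain ⟨b, hb⟩ := IsPGroup.iff_card.1 hR
    rw [ha, hb]
    exact Nat.Coprime.pow _ _ ((Nat.coprime_primes hq hr).2 (Ne.symm hrq))
  obtain ⟨H, hHc, hXH, hRH⟩ : ∃ H : Subgroup G, Nat.card H = Nat.card X * Nat.card R ∧ X ≤ H ∧ R ≤ H := by
    rcases hnorm with h | h
    · refine ⟨R ⊔ X, ?_, le_sup_right, le_sup_left⟩
      rw [Cfsg.Agent.Lib.PGroup.ConjAb.card_sup_coprime h hcop, mul_comm]
    · refine ⟨X ⊔ R, ?_, le_sup_left, le_sup_right⟩
      exact Cfsg.Agent.Lib.PGroup.ConjAb.card_sup_coprime h hcop.symm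
  have hpd : p ∣ Nat.card H := by
    by_cases hH : H = ⊤
    · rw [hH, Subgroup.card_top]; exact hpG
    · refine hmix H hH ?_ (hHc ▸ Dvd.dvd.mul_right hqX _)
      intro hHq
      obtain ⟨c, hc⟩ := IsPGroup.iff_card.1 hHq
      have h1 : r ∣ q ^ c := by rw [← hc, hHc]; exact Dvd.dvd.mul_left hrR _
      exact hrq ((Nat.prime_dvd_prime_iff_eq hr hq).1 (hr.dvd_of_dvd_pow h1))
  rw [hHc] at hpd
  obtain ⟨a, ha⟩ := IsPGroup.iff_card.1 hX
  obtain ⟨b, hb⟩ := IsPGroup.iff_card.1 hR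
  rw [ha, hb] at hpd
  rcases (Nat.Prime.dvd_mul hp).1 hpd with h | h
  · exact absurd ((Nat.prime_dvd_prime_iff_eq hp hq).1 (hp.dvd_of_dvd_pow h)) hpq
  · exact ((Nat.prime_dvd_prime_iff_eq hp hr).1 (hp.dvd_of_dvd_pow h)).symm

/-- Involutions. -/
def IsInv (x : G) : Prop := x ≠ 1 ∧ x ^ 2 = 1

theorem mem_smul_sylow {r : ℕ} {P : Sylow r G} {g x : G} :
    x ∈ ((g • P : Sylow r G) : Subgroup G) ↔ g⁻¹ * x * g ∈ (P : Subgroup G) := by
  rw [Sylow.coe_subgroup_smul, Subgroup.mem_pointwise_smul_iff_inv_smul_mem, MulAut.smul_def]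
  simp [MulAut.conj_apply, MulAut.conj_inv_apply]

theorem conj_mem_smul_sylow {r : ℕ} {P : Sylow r G} {g x : G} (hx : x ∈ (P : Subgroup G)) :
    g * x * g⁻¹ ∈ ((g • P : Sylow r G) : Subgroup G) := by
  rw [mem_smul_sylow]
  simpa [mul_assoc] using hx

theorem mem_sylow_of_norm [Finite G] {r : ℕ} [Fact r.Prime] {S : Sylow r G} {x : G}
    (hx : IsPGroup r (zpowers x)) (hn : x ∈ normalizer ((S : Subgroup G) : Set G)) :
    x ∈ (S : Subgroup G) := by
  have h1 := hx.inf_normalizer_sylow S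
  have h3 := h1.le (mem_inf.mpr ⟨mem_zpowers x, hn⟩)
  exact (mem_inf.mp h3).2

theorem isP_zpowers_of_pow {r n : ℕ} [Fact r.Prime] {x : G} (h : x ^ r ^ n = 1) :
    IsPGroup r (zpowers x) := by
  refine IsPGroup.of_card (n := (Nat.dvd_prime_pow Fact.out).1 (orderOf_dvd_of_pow_eq_one h) |>.choose) ?_
  rw [Nat.card_zpowers]
  exact ((Nat.dvd_prime_pow Fact.out).1 (orderOf_dvd_of_pow_eq_one h)).choose_spec.2

theorem sylow_eq_of_le [Finite G] {r : ℕ} [Fact r.Prime] {A B : Sylow r G}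
    (h : (A : Subgroup G) ≤ B) : A = B := by
  apply Sylow.ext
  apply Subgroup.eq_of_le_of_card_ge h
  rw [Sylow.card_eq_multiplicity, Sylow.card_eq_multiplicity]

/-- `conj` on `zpowers`: inverted elements. -/
theorem inv_of_zpowers {t c a : G} (h : t * c * t⁻¹ = c⁻¹) (ha : a ∈ zpowers c) :
    t * a * t⁻¹ = a⁻¹ := by
  obtain ⟨k, rfl⟩ := Subgroup.mem_zpowers_iff.1 ha
  rw [← conj_zpow, h, inv_zpow]

theorem comm_of_zpowers {t c a : G} (h : t * c * t⁻¹ = c) (ha : a ∈ zpowers c) :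
    t * a * t⁻¹ = a := by
  obtain ⟨k, rfl⟩ := Subgroup.mem_zpowers_iff.1 ha
  rw [← conj_zpow, h]

theorem odd_eq_one_of_sq {w : G} (hw : Odd (orderOf w)) (h : w ^ 2 = 1) : w = 1 := by
  have h1 : orderOf w ∣ 2 := orderOf_dvd_of_pow_eq_one h
  have h2 : orderOf w = 1 ∨ orderOf w = 2 := (Nat.dvd_prime Nat.prime_two).1 h1
  rcases h2 with h2 | h2
  · exact orderOf_eq_one_iff.1 h2
  · rw [h2] at hw; exact absurd hw (by decide)

theorem odd_eq_one_of_self_inv {w t : G} (hw : Odd (orderOf w)) (h1 : t * w * t⁻¹ = w⁻¹)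
    (h2 : t * w * t⁻¹ = w) : w = 1 := by
  apply odd_eq_one_of_sq hw
  have : w⁻¹ = w := h1.symm.trans h2
  rw [pow_two]
  nth_rw 1 [← this]
  simp

/-- The data of the second case. -/
structure Data (p : ℕ) (G : Type u) [Group G] (Q : Sylow 2 G) (y : G) : Prop where
  hp : p.Prime
  hp2 : p ≠ 2
  hpG : p ∣ Nat.card G
  mix : Mix p 2 G
  ab : ∀ P : Sylow p G, ∀ a ∈ (P : Subgroup G), ∀ b ∈ (P : Subgroup G), a * b = b * a
  cardQ : Nat.card Q = p + 1
  expQ : ∀ s ∈ (Q : Subgroup G), s ^ 2 = 1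
  ynorm : y ∈ normalizer ((Q : Subgroup G) : Set G)
  ypow : ∃ n : ℕ, y ^ p ^ n = 1
  trans : ∀ s ∈ (Q : Subgroup G), s ≠ 1 → ∀ s' ∈ (Q : Subgroup G), s' ≠ 1 →
    ∃ i : ℕ, y ^ i * s * (y ^ i)⁻¹ = s'

variable [Finite G] {p : ℕ} {Q : Sylow 2 G} {y : G}

namespace Data

variable (D : Data p G Q y)
include D

theorem conj_to_Q {U : Subgroup G} (hU : IsPGroup 2 U) : ∃ g : G, ∀ u ∈ U, g * u * g⁻¹ ∈ (Q : Subgroup G) := by
  obtain ⟨S, hS⟩ := hU.exists_le_sylow
  obtain ⟨g, hg⟩ := MulAction.exists_smul_eq G S Q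
  refine ⟨g, fun u hu => ?_⟩
  rw [← hg]
  exact conj_mem_smul_sylow (hS hu)

theorem two_elem {x : G} (hx : IsPGroup 2 (zpowers x)) : x ^ 2 = 1 := by
  obtain ⟨g, hg⟩ := D.conj_to_Q hx
  have h1 := D.expQ _ (hg x (mem_zpowers x))
  have h2 : (g * x * g⁻¹) ^ 2 = g * x ^ 2 * g⁻¹ := by rw [conj_pow]
  rw [h2] at h1
  have h3 : g * x ^ 2 * g⁻¹ = g * 1 * g⁻¹ := by rw [h1]; group
  exact mul_left_cancel (mul_right_cancel h3)

theorem isP_zpowers_inv {t : G} (ht : t ^ 2 = 1) : IsPGroup 2 (zpowers t) := by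
  exact isP_zpowers_of_pow (n := 1) (by simpa using ht)

theorem two_subgroup_sq {U : Subgroup G} (hU : IsPGroup 2 U) {x : G} (hx : x ∈ U) : x ^ 2 = 1 := by
  obtain ⟨g, hg⟩ := D.conj_to_Q hU
  have h1 := D.expQ _ (hg x hx)
  have h2 : (g * x * g⁻¹) ^ 2 = g * x ^ 2 * g⁻¹ := by rw [conj_pow]
  rw [h2] at h1
  have h3 : g * x ^ 2 * g⁻¹ = g * 1 * g⁻¹ := by rw [h1]; group
  exact mul_left_cancel (mul_right_cancel h3)

theorem two_subgroup_comm {U : Subgroup G} (hU : IsPGroup 2 U) {a b : G} (ha : a ∈ U) (hb : b ∈ U) :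
    a * b = b * a := by
  have h1 := D.two_subgroup_sq hU (U.mul_mem ha hb)
  have h2 := D.two_subgroup_sq hU ha
  have h3 := D.two_subgroup_sq hU hb
  have ha' : a⁻¹ = a := by rw [pow_two] at h2; exact inv_eq_of_mul_eq_one_left h2
  have hb' : b⁻¹ = b := by rw [pow_two] at h3; exact inv_eq_of_mul_eq_one_left h3
  have h4 : (a * b)⁻¹ = a * b := by rw [pow_two] at h1; exact inv_eq_of_mul_eq_one_left h1
  rw [mul_inv_rev, ha', hb'] at h4
  exact h4.symm

theorem card_two_le {U : Subgroup G} (hU : IsPGroup 2 U) : Nat.card U ≤ p + 1 := by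
  obtain ⟨S, hS⟩ := hU.exists_le_sylow
  have h1 : Nat.card S = Nat.card Q := by
    rw [Sylow.card_eq_multiplicity, Sylow.card_eq_multiplicity]
  rw [← D.cardQ, ← h1]
  exact Subgroup.card_le_of_le hS

theorem exists_sylow_of_card {U : Subgroup G} (hU : IsPGroup 2 U) (h : p + 1 ≤ Nat.card U) :
    ∃ S : Sylow 2 G, (S : Subgroup G) = U := by
  obtain ⟨S, hS⟩ := hU.exists_le_sylow
  refine ⟨S, (Subgroup.eq_of_le_of_card_ge hS ?_).symm⟩
  have h1 : Nat.card S = Nat.card Q := by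
    rw [Sylow.card_eq_multiplicity, Sylow.card_eq_multiplicity]
  rw [h1, D.cardQ]
  exact h

theorem isInv_conj {a b : G} (ha : IsInv a) (hb : IsInv b) : ∃ g : G, g * a * g⁻¹ = b := by
  obtain ⟨g1, hg1⟩ := D.conj_to_Q (D.isP_zpowers_inv ha.2)
  obtain ⟨g2, hg2⟩ := D.conj_to_Q (D.isP_zpowers_inv hb.2)
  have h1 := hg1 a (mem_zpowers a)
  have h2 := hg2 b (mem_zpowers b)
  have h1' : g1 * a * g1⁻¹ ≠ 1 := by
    intro h; apply ha.1
    have : g1 * a * g1⁻¹ = g1 * 1 * g1⁻¹ := by rw [h]; group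
    exact mul_left_cancel (mul_right_cancel this)
  have h2' : g2 * b * g2⁻¹ ≠ 1 := by
    intro h; apply hb.1
    have : g2 * b * g2⁻¹ = g2 * 1 * g2⁻¹ := by rw [h]; group
    exact mul_left_cancel (mul_right_cancel this)
  obtain ⟨i, hi⟩ := D.trans _ h1 h1' _ h2 h2'
  refine ⟨g2⁻¹ * y ^ i * g1, ?_⟩
  calc g2⁻¹ * y ^ i * g1 * a * (g2⁻¹ * y ^ i * g1)⁻¹
      = g2⁻¹ * (y ^ i * (g1 * a * g1⁻¹) * (y ^ i)⁻¹) * g2 := by group
    _ = b := by rw [hi]; group

theorem decomp (x : G) : ∃ a b : G, x = a * b ∧ a ∈ zpowers x ∧ b ∈ zpowers x ∧ a ^ 2 = 1 ∧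
    Odd (orderOf b) := by
  have hn : orderOf x ≠ 0 := (orderOf_pos x).ne'
  obtain ⟨k, m, hm, hkm⟩ := Nat.exists_eq_two_pow_mul_odd hn
  have hcop : Nat.gcd (2 ^ k) m = 1 :=
    Nat.Coprime.pow_left k (Nat.coprime_two_left.2 hm)
  have hbez := Nat.gcd_eq_gcd_ab (2 ^ k) m
  rw [hcop] at hbez
  set u := Nat.gcdA (2 ^ k) m
  set v := Nat.gcdB (2 ^ k) m
  have hx1 : x ^ (orderOf x : ℤ) = 1 := by simp
  refine ⟨x ^ (v * m : ℤ), x ^ (u * 2 ^ k : ℤ), ?_, zpow_mem (mem_zpowers x) _, zpow_mem (mem_zpowers x) _, ?_, ?_⟩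
  · rw [← zpow_add]
    have : (v * m + u * 2 ^ k : ℤ) = 1 := by
      have := hbez
      push_cast at this
      linarith
    rw [this, zpow_one]
  · have h1 : (x ^ (v * m : ℤ)) ^ (2 ^ k : ℕ) = 1 := by
      rw [← zpow_natCast, ← zpow_mul]
      have : (v * m * ((2 ^ k : ℕ) : ℤ) : ℤ) = v * (orderOf x : ℤ) := by
        rw [hkm]; push_cast; ring
      rw [this, zpow_mul', hx1, one_zpow]
    exact D.two_elem (isP_zpowers_of_pow h1)
  · have h1 : (x ^ (u * 2 ^ k : ℤ)) ^ m = 1 := by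
      rw [← zpow_natCast, ← zpow_mul]
      have : (u * 2 ^ k * (m : ℤ) : ℤ) = u * (orderOf x : ℤ) := by
        rw [hkm]; push_cast; ring
      rw [this, zpow_mul', hx1, one_zpow]
    exact Odd.of_dvd_nat hm (orderOf_dvd_of_pow_eq_one h1)

theorem odd_card_of_odd_zpowers {b : G} (hb : Odd (orderOf b)) : Odd (Nat.card (zpowers b)) := by
  rwa [Nat.card_zpowers]

/-- Odd-order subgroups normalized by an involution are `p`-groups. -/
theorem isP_of_inv_norm {K : Subgroup G} (hK : Odd (Nat.card K)) {t : G} (ht : IsInv t)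
    (hn : t ∈ normalizer (K : Set G)) : IsPGroup p K := by
  have hpp := D.hp
  haveI := Fact.mk hpp
  have hT : IsPGroup 2 (zpowers t) := D.isP_zpowers_inv ht.2
  have h2t : 2 ∣ Nat.card (zpowers t) := by
    rw [Nat.card_zpowers]
    rw [orderOf_eq_prime ht.2 ht.1]
  have hAK : zpowers t ≤ normalizer (K : Set G) := by
    rw [zpowers_le]; exact hn
  have hcop : (Nat.card (zpowers t)).Coprime (Nat.card K) := by
    rw [Nat.card_zpowers, orderOf_eq_prime ht.2 ht.1]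
    exact Nat.coprime_two_left.2 hK
  have hsol : Group.IsSolvable (zpowers t) := inferInstance
  have key : ∀ {r : ℕ}, r.Prime → r ∣ Nat.card K → r = p := by
    intro r hr hrK
    haveI := Fact.mk hr
    obtain ⟨P, hP⟩ := Cfsg.Agent.Lib.Hall.exists_invariant_sylow (zpowers t) K hAK hcop (Or.inl hsol) r
    have hr2 : r ≠ 2 := by
      rintro rfl
      exact (Nat.not_even_iff_odd.2 hK) (even_iff_two_dvd.2 hrK)
    refine mix_core hpp Nat.prime_two hr D.hp2 hr2 D.hpG D.mix hT h2t ?_ ?_ (Or.inl hP)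
    · exact P.isPGroup'.map _
    · have h3 : r ∣ Nat.card P := Sylow.dvd_card_of_dvd_card P hrK
      have h4 : Nat.card ((P : Subgroup K).map K.subtype) = Nat.card (P : Subgroup K) :=
        Subgroup.card_map_of_injective K.subtype_injective
      rw [h4]; exact h3
  have h0 : Nat.card K ≠ 0 := Nat.card_pos.ne'
  exact IsPGroup.of_card (Nat.eq_prime_pow_of_unique_prime_dvd h0 (fun {d} hd hdv => key hd hdv))

/-- Odd-order subgroups normalizing a nontrivial `2`-subgroup are `p`-groups. -/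
theorem isP_of_norm_two {K U : Subgroup G} (hK : Odd (Nat.card K)) (hU : IsPGroup 2 U) (hU1 : U ≠ ⊥)
    (hn : K ≤ normalizer (U : Set G)) : IsPGroup p K := by
  have hpp := D.hp
  haveI := Fact.mk hpp
  have h2U : 2 ∣ Nat.card U := by
    obtain ⟨a, ha⟩ := IsPGroup.iff_card.1 hU
    rw [ha]
    refine dvd_pow_self 2 ?_
    rintro rfl
    apply hU1
    rw [pow_zero] at ha
    exact Subgroup.card_eq_one.1 ha
  have key : ∀ {r : ℕ}, r.Prime → r ∣ Nat.card K → r = p := by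
    intro r hr hrK
    haveI := Fact.mk hr
    let P : Sylow r K := default
    have hr2 : r ≠ 2 := by
      rintro rfl
      exact (Nat.not_even_iff_odd.2 hK) (even_iff_two_dvd.2 hrK)
    refine mix_core hpp Nat.prime_two hr D.hp2 hr2 D.hpG D.mix hU h2U (R := (P : Subgroup K).map K.subtype) ?_ ?_ (Or.inr ?_)
    · exact P.isPGroup'.map _
    · have h3 : r ∣ Nat.card P := Sylow.dvd_card_of_dvd_card P hrK
      have h4 : Nat.card ((P : Subgroup K).map K.subtype) = Nat.card (P : Subgroup K) :=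
        Subgroup.card_map_of_injective K.subtype_injective
      rw [h4]; exact h3
    · exact (Subgroup.map_subtype_le _).trans hn
  have h0 : Nat.card K ≠ 0 := Nat.card_pos.ne'
  exact IsPGroup.of_card (Nat.eq_prime_pow_of_unique_prime_dvd h0 (fun {d} hd hdv => key hd hdv))

end Data

end Cfsg.Agent.Lib.MixP
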