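import Cfsg.Agent.Lib.MixP.Core

/-! The first case: involutions with the same centralizer structure (a counting argument). -/

set_option autoImplicit false

namespace Cfsg.Agent.Lib.MixP

open Subgroup
open scoped Pointwise

universe u

variable {G : Type u} [Group G] [Finite G] {p : ℕ} {Q : Sylow 2 G} {y : G}

theorem isInv_conj_elt {t : G} (ht : IsInv t) (g : G) : IsInv (g * t * g⁻¹) := by
  refine ⟨?_, ?_⟩
  · intro h0
    apply ht.1
    have : g * t * g⁻¹ = g * 1 * g⁻¹ := by rw [h0]; group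
    exact mul_left_cancel (mul_right_cancel this)
  · rw [conj_pow, ht.2]; group

theorem inv_eq_self {t : G} (ht : IsInv t) : t⁻¹ = t := by
  have := ht.2; rw [pow_two] at this; exact inv_eq_of_mul_eq_one_left this

theorem mul_self_inv {t : G} (ht : IsInv t) : t * t = 1 := by
  rw [← pow_two]; exact ht.2

theorem conj_inverted_eq {t w : G} (hinv : t * w * t⁻¹ = w⁻¹) : t * w⁻¹ * t⁻¹ = w := by
  have := congrArg (·⁻¹) hinv
  simpa [mul_assoc] using this

theorem comm_conj_inverted {t w x : G} (hinv : t * w * t⁻¹ = w⁻¹) (h : x * w = w * x) :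
    (t * x * t⁻¹) * w = w * (t * x * t⁻¹) := by
  have h2 : x * w⁻¹ = w⁻¹ * x := Commute.inv_right h
  have h3 : t * w⁻¹ * t⁻¹ = w := conj_inverted_eq hinv
  calc t * x * t⁻¹ * w = t * x * t⁻¹ * (t * w⁻¹ * t⁻¹) := by rw [h3]
    _ = t * (x * w⁻¹) * t⁻¹ := by group
    _ = t * (w⁻¹ * x) * t⁻¹ := by rw [h2]
    _ = (t * w⁻¹ * t⁻¹) * (t * x * t⁻¹) := by group
    _ = w * (t * x * t⁻¹) := by rw [h3]

theorem orderOf_conj_elt (g x : G) : orderOf (g * x * g⁻¹) = orderOf x := by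
  rw [show g * x * g⁻¹ = (MulAut.conj g) x from rfl, MulEquiv.orderOf_eq]

theorem prod_inverted {t t' : G} (ht : IsInv t) (ht' : IsInv t') :
    t * (t * t') * t⁻¹ = (t * t')⁻¹ ∧ t' * (t * t') * t'⁻¹ = (t * t')⁻¹ := by
  have hci : (t * t')⁻¹ = t' * t := by rw [mul_inv_rev, inv_eq_self ht, inv_eq_self ht']
  constructor
  · rw [hci, inv_eq_self ht]
    calc t * (t * t') * t = (t * t) * t' * t := by group
      _ = t' * t := by rw [mul_self_inv ht]; simp
  · rw [hci]; group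

/-- No element of a `p`-group fixes ... : divisibility of orbit counts. -/
theorem p_dvd_card_of_no_fixed [Fact p.Prime] (T : Subgroup G) (hT : IsPGroup p T) (A : Finset G)
    (hst : ∀ g ∈ T, ∀ a ∈ A, g * a * g⁻¹ ∈ A) (hnf : ∀ a ∈ A, ∃ g ∈ T, g * a * g⁻¹ ≠ a) :
    p ∣ A.card := by
  classical
  letI : MulAction T A :=
    { smul := fun g a => ⟨(g : G) * a * (g : G)⁻¹, hst g g.2 a a.2⟩
      one_smul := fun a => by
        apply Subtype.ext
        show ((1 : T) : G) * a * ((1 : T) : G)⁻¹ = a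
        simp
      mul_smul := fun g h a => by
        apply Subtype.ext
        show ((g * h : T) : G) * a * ((g * h : T) : G)⁻¹ = (g : G) * ((h : G) * a * (h : G)⁻¹) * (g : G)⁻¹
        push_cast
        group }
  have h1 := hT.card_modEq_card_fixedPoints (A)
  have h2 : IsEmpty (MulAction.fixedPoints T A) := by
    refine ⟨fun x => ?_⟩
    obtain ⟨g, hg, hga⟩ := hnf x.1 x.1.2
    apply hga
    have := x.2 ⟨g, hg⟩
    exact congrArg Subtype.val this
  have h4 : Nat.card (MulAction.fixedPoints T A) = 0 := Nat.card_of_isEmpty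
  rw [h4] at h1
  have h3 : Nat.card A = A.card := by simp
  rw [h3] at h1
  exact (Nat.modEq_zero_iff_dvd).1 h1

namespace Data

variable (D : Data p G Q y)
include D

theorem exists_Q_ne_one : ∃ t ∈ (Q : Subgroup G), t ≠ 1 := by
  by_contra h
  push Not at h
  have h1 : (Q : Subgroup G) = ⊥ := (Subgroup.eq_bot_iff_forall _).2 h
  have h2 := D.cardQ
  rw [show Nat.card Q = Nat.card (Q : Subgroup G) from rfl, h1, Subgroup.card_bot] at h2
  have := D.hp.two_le
  omega

theorem y_moves {s : G} (hs : s ∈ (Q : Subgroup G)) (hs1 : s ≠ 1) : y * s * y⁻¹ ≠ s := by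
  intro h
  have hi : ∀ i : ℕ, y ^ i * s * (y ^ i)⁻¹ = s := by
    intro i
    induction i with
    | zero => simp
    | succ i ih =>
      calc y ^ (i + 1) * s * (y ^ (i + 1))⁻¹ = y * (y ^ i * s * (y ^ i)⁻¹) * y⁻¹ := by
            rw [pow_succ']; group
        _ = s := by rw [ih, h]
  have hle : (Q : Subgroup G) ≤ zpowers s := by
    intro q hq
    by_cases hq1 : q = 1
    · subst hq1; exact one_mem _
    obtain ⟨i, hi'⟩ := D.trans s hs hs1 q hq hq1
    rw [hi i] at hi'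
    rw [← hi']; exact mem_zpowers s
  have h1 := Subgroup.card_le_of_le hle
  rw [Nat.card_zpowers, orderOf_eq_prime (D.expQ s hs) hs1] at h1
  have h2 := D.cardQ
  have h3 : Nat.card Q = Nat.card (Q : Subgroup G) := rfl
  have h4 := D.hp.two_le
  omega

theorem mem_M_conj {b b' g x : G} (hb : IsInv b) (hb' : IsInv b') (hg : g * b * g⁻¹ = b')
    (hx : x ∈ D.M hb) : g * x * g⁻¹ ∈ D.M hb' := by
  obtain ⟨h1, h2⟩ := (D.mem_M hb).1 hx
  refine (D.mem_M hb').2 ⟨?_, by rwa [orderOf_conj_elt]⟩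
  rw [← hg]
  calc g * x * g⁻¹ * (g * b * g⁻¹) = g * (x * b) * g⁻¹ := by group
    _ = g * (b * x) * g⁻¹ := by rw [h1]
    _ = g * b * g⁻¹ * (g * x * g⁻¹) := by group

theorem card_M_le {b b' : G} (hb : IsInv b) (hb' : IsInv b') :
    Nat.card (D.M hb) ≤ Nat.card (D.M hb') := by
  obtain ⟨g, hg⟩ := D.isInv_conj hb hb'
  refine Nat.card_le_card_of_injective
    (fun x : D.M hb => (⟨g * x * g⁻¹, D.mem_M_conj hb hb' hg x.2⟩ : D.M hb')) ?_
  intro x x' h
  have h1 : g * (x : G) * g⁻¹ = g * x' * g⁻¹ := congrArg Subtype.val h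
  exact Subtype.ext (mul_left_cancel (mul_right_cancel h1))

section CaseI

variable (H1 : ∀ t s : G, IsInv t → IsInv s → t * s = s * t →
  ∀ x, x * t = t * x → Odd (orderOf x) → x * s = s * x)
include H1

theorem I_comm {z t t' : G} (hz : IsInv z) (ht : IsInv t) (ht' : IsInv t') (h1 : t * z = z * t)
    (h2 : t' * z = z * t') : t * t' = t' * t := by
  by_contra hne
  obtain ⟨a, b, hc, ha2, hab, hb1, hbo, hbt, hbt', hat, hat', hamem, hbmem⟩ := D.noncomm ht ht' hne
  have hzc : z * (t * t') * z⁻¹ = t * t' := by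
    calc z * (t * t') * z⁻¹ = (z * t) * t' * z⁻¹ := by group
      _ = (t * z) * t' * z⁻¹ := by rw [h1]
      _ = t * (z * t') * z⁻¹ := by group
      _ = t * (t' * z) * z⁻¹ := by rw [h2]
      _ = t * t' := by group
  have hzb := comm_of_zpowers hzc hbmem
  have hbz : b * z = z * b := by
    calc b * z = (z * b * z⁻¹) * z := by rw [hzb]
      _ = z * b := by group
  have h3 := H1 z t hz ht h1.symm b hbz hbo
  have h4 : t * b * t⁻¹ = b := by rw [← h3]; group
  exact hb1 (odd_eq_one_of_self_inv hbo hbt h4)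

theorem I_odd {t t' : G} (ht : IsInv t) (ht' : IsInv t') (hne : t * t' ≠ t' * t) :
    Odd (orderOf (t * t')) ∧ t * t' ≠ 1 := by
  obtain ⟨a, b, hc, ha2, hab, hb1, hbo, hbt, hbt', hat, hat', hamem, hbmem⟩ := D.noncomm ht ht' hne
  have ha1 : a = 1 := by
    by_contra ha
    have hai : IsInv a := ⟨ha, ha2⟩
    apply hne
    refine D.I_comm H1 hai ht ht' ?_ ?_
    · calc t * a = (t * a * t⁻¹) * t := by group
        _ = a * t := by rw [hat]
    · calc t' * a = (t' * a * t'⁻¹) * t' := by group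
        _ = a * t' := by rw [hat']
  subst ha1
  rw [one_mul] at hc
  rw [hc]
  exact ⟨hbo, hb1⟩

theorem I_no_comm {t w z : G} (ht : IsInv t) (hw1 : w ≠ 1) (hwo : Odd (orderOf w))
    (hinv : t * w * t⁻¹ = w⁻¹) (hz : IsInv z) (hzw : w * z = z * w) : False := by
  obtain ⟨U, hU⟩ := (D.isP_zpowers_inv hz.2).exists_le_sylow
  have hzU : z ∈ (U : Subgroup G) := hU (mem_zpowers z)
  refine D.no_full_sylow ht hw1 hwo hinv U fun u hu => ?_
  by_cases hu1 : u = 1
  · subst hu1; simp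
  have hui : IsInv u := ⟨hu1, D.two_subgroup_sq U.isPGroup' hu⟩
  have hc := D.two_subgroup_comm U.isPGroup' hzU hu
  exact (H1 z u hz hui hc w hzw hwo).symm

theorem I_centr {t w : G} (ht : IsInv t) (hw1 : w ≠ 1) (hwo : Odd (orderOf w))
    (hinv : t * w * t⁻¹ = w⁻¹) : ∃ T : Sylow p G, ∀ x, x ∈ (T : Subgroup G) ↔ x * w = w * x := by
  have hpp := D.hp
  haveI := Fact.mk hpp
  let K := centralizer ({w} : Set G)
  have hKo : Odd (Nat.card K) := by
    rw [← Nat.not_even_iff_odd, even_iff_two_dvd]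
    intro h2
    obtain ⟨x, hx⟩ := exists_prime_orderOf_dvd_card' 2 h2
    have hxG : orderOf (x : G) = 2 := by rw [Subgroup.orderOf_coe]; exact hx
    have hxi : IsInv (x : G) := by
      refine ⟨?_, ?_⟩
      · intro h0
        rw [h0, orderOf_one] at hxG
        omega
      · rw [← hxG]; exact pow_orderOf_eq_one _
    have hxw : w * x = x * w := (mem_centralizer_singleton_iff.1 x.2).symm
    exact D.I_no_comm H1 ht hw1 hwo hinv hxi hxw
  have htn : t ∈ normalizer (K : Set G) := by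
    apply mem_normalizer_of_conj_mem
    intro x hx
    rw [mem_centralizer_singleton_iff]
    exact comm_conj_inverted hinv (mem_centralizer_singleton_iff.1 hx)
  have hKp := D.isP_of_inv_norm hKo ht htn
  obtain ⟨T, hT⟩ := hKp.exists_le_sylow
  have hwT : w ∈ (T : Subgroup G) := hT (by rw [mem_centralizer_singleton_iff])
  exact ⟨T, fun x => ⟨fun hx => D.ab T x hx w hwT, fun hx => hT (mem_centralizer_singleton_iff.2 hx)⟩⟩

/-- A non-commuting pair of involutions normalizes a Sylow subgroup containing its product. -/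
theorem I_pair {t a : G} (ht : IsInv t) (ha : IsInv a) (hne : t * a ≠ a * t) :
    ∃ T : Sylow p G, t ∈ normalizer ((T : Subgroup G) : Set G) ∧ a ∈ normalizer ((T : Subgroup G) : Set G) ∧
      t * a ∈ (T : Subgroup G) := by
  obtain ⟨hwo, hw1⟩ := D.I_odd H1 ht ha hne
  obtain ⟨h1, h2⟩ := prod_inverted ht ha
  obtain ⟨T, hT⟩ := D.I_centr H1 ht hw1 hwo h1
  refine ⟨T, ?_, ?_, (hT _).2 rfl⟩
  · apply mem_normalizer_of_conj_mem
    intro x hx
    exact (hT _).2 (comm_conj_inverted h1 ((hT x).1 hx))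
  · apply mem_normalizer_of_conj_mem
    intro x hx
    exact (hT _).2 (comm_conj_inverted h2 ((hT x).1 hx))

theorem I_mem_Q {t a : G} (htQ : t ∈ (Q : Subgroup G)) (ht : IsInv t) (ha : a ^ 2 = 1) (hat : a * t = t * a) :
    a ∈ (Q : Subgroup G) := by
  by_cases ha1 : a = 1
  · subst ha1; exact one_mem _
  refine D.mem_Q_of_comm ha fun s hs => ?_
  by_cases hs1 : s = 1
  · subst hs1; simp
  exact D.I_comm H1 ht ⟨ha1, ha⟩ (D.isInv_of_mem_Q hs hs1) hat
    (D.two_subgroup_comm Q.isPGroup' hs htQ)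

theorem I_F_comm_Q {t : G} (ht : IsInv t) (htQ : t ∈ (Q : Subgroup G)) {x : G} (hx : x ∈ D.M ht)
    {s : G} (hs : s ∈ (Q : Subgroup G)) : x * s = s * x := by
  by_cases hs1 : s = 1
  · subst hs1; simp
  obtain ⟨h1, h2⟩ := (D.mem_M ht).1 hx
  exact H1 t s ht (D.isInv_of_mem_Q hs hs1) (D.two_subgroup_comm Q.isPGroup' htQ hs) x h1 h2

theorem I_exists_T0 {t : G} (ht : IsInv t) (htQ : t ∈ (Q : Subgroup G)) :
    ∃ T0 : Sylow p G, D.M ht ≤ (T0 : Subgroup G) ∧ y ∈ (T0 : Subgroup G) := by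
  have hpp := D.hp
  haveI := Fact.mk hpp
  obtain ⟨n, hn⟩ := D.ypow
  have hyp : IsPGroup p (zpowers y) := isP_zpowers_of_pow hn
  have hyn : y ∈ normalizer ((D.M ht : Subgroup G) : Set G) := by
    apply mem_normalizer_of_conj_mem
    intro x hx
    obtain ⟨h1, h2⟩ := (D.mem_M ht).1 hx
    refine (D.mem_M ht).2 ⟨?_, by rwa [orderOf_conj_elt]⟩
    have hs : y⁻¹ * t * y ∈ (Q : Subgroup G) := by
      have hyi : y⁻¹ ∈ normalizer ((Q : Subgroup G) : Set G) := inv_mem D.ynorm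
      have := (mem_normalizer_iff.1 hyi t).1 htQ
      simpa using this
    have h3 := D.I_F_comm_Q H1 ht htQ hx hs
    calc y * x * y⁻¹ * t = y * (x * (y⁻¹ * t * y)) * y⁻¹ := by group
      _ = y * ((y⁻¹ * t * y) * x) * y⁻¹ := by rw [h3]
      _ = t * (y * x * y⁻¹) := by group
  have hsup : IsPGroup p ((zpowers y ⊔ D.M ht : Subgroup G)) :=
    hyp.to_sup_of_normal_right' (D.isP_M ht) (by rw [zpowers_le]; exact hyn)
  obtain ⟨T0, hT0⟩ := hsup.exists_le_sylow
  exact ⟨T0, le_sup_right.trans hT0, hT0 (mem_sup_left (mem_zpowers y))⟩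

theorem I_no_cent {t : G} (ht : IsInv t) (htQ : t ∈ (Q : Subgroup G)) (ht1 : t ≠ 1) {T0 : Sylow p G}
    (hFT : D.M ht ≤ (T0 : Subgroup G)) (hyT : y ∈ (T0 : Subgroup G)) (T' : Sylow p G) {b : G} (hb : IsInv b) :
    ∃ x ∈ (T' : Subgroup G), x * b ≠ b * x := by
  have hpp := D.hp
  haveI := Fact.mk hpp
  by_contra hcon
  push Not at hcon
  obtain ⟨g, hg⟩ := D.isInv_conj hb ht
  have hle : ((g • T' : Sylow p G) : Subgroup G) ≤ D.M ht := by
    intro x hx
    have h1 := hcon _ (mem_smul_sylow.1 hx)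
    refine (D.mem_M ht).2 ⟨?_, ?_⟩
    · rw [← hg]
      calc x * (g * b * g⁻¹) = g * ((g⁻¹ * x * g) * b) * g⁻¹ := by group
        _ = g * (b * (g⁻¹ * x * g)) * g⁻¹ := by rw [h1]
        _ = g * b * g⁻¹ * x := by group
    · exact D.odd_of_isP (g • T').isPGroup' hx
  have h2 : (g • T' : Sylow p G) = T0 := sylow_eq_of_le (hle.trans hFT)
  have hyF : y ∈ D.M ht := hle (by rw [h2]; exact hyT)
  obtain ⟨h3, -⟩ := (D.mem_M ht).1 hyF
  apply D.y_moves htQ ht1
  rw [h3]; group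

theorem I_M_le_T0 {t : G} (ht : IsInv t) {T0 : Sylow p G} (hFT : D.M ht ≤ (T0 : Subgroup G))
    {b : G} (hb : IsInv b) (hbn : b ∈ normalizer ((T0 : Subgroup G) : Set G)) :
    D.M hb ≤ (T0 : Subgroup G) := by
  have hb' := inv_eq_self hb
  have hbb := mul_self_inv hb
  let A : Subgroup G := D.M hb ⊓ (T0 : Subgroup G)
  have hmap : ∀ x : D.M ht, (x : G) * (b * x * b⁻¹) ∈ A := by
    intro x
    have hxT : (x : G) ∈ (T0 : Subgroup G) := hFT x.2
    have hyT : b * (x : G) * b⁻¹ ∈ (T0 : Subgroup G) := (mem_normalizer_iff.1 hbn x).1 hxT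
    have hprodT := (T0 : Subgroup G).mul_mem hxT hyT
    refine mem_inf.mpr ⟨(D.mem_M hb).2 ⟨?_, D.odd_of_isP T0.isPGroup' hprodT⟩, hprodT⟩
    have hcomm := D.ab T0 x hxT _ hyT
    calc (x : G) * (b * x * b⁻¹) * b = (x : G) * (b * x) := by group
      _ = x * b⁻¹ * x := by rw [hb']; group
      _ = (b * b) * x * b⁻¹ * x := by rw [hbb]; simp
      _ = b * (b * x * b⁻¹ * x) := by group
      _ = b * (x * (b * x * b⁻¹)) := by rw [hcomm]
  have hinj : Function.Injective (fun x : D.M ht => (⟨_, hmap x⟩ : A)) := by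
    intro x x' h
    have h' : (x : G) * (b * x * b⁻¹) = x' * (b * x' * b⁻¹) := congrArg Subtype.val h
    have hxT : (x : G) ∈ (T0 : Subgroup G) := hFT x.2
    have hxT' : (x' : G) ∈ (T0 : Subgroup G) := hFT x'.2
    have hyT' : b * (x' : G) * b⁻¹ ∈ (T0 : Subgroup G) := (mem_normalizer_iff.1 hbn x').1 hxT'
    have huF : (x' : G)⁻¹ * x ∈ D.M ht := (D.M ht).mul_mem (inv_mem x'.2) x.2
    have h1 : b * (x : G) * b⁻¹ = (x : G)⁻¹ * x' * (b * x' * b⁻¹) := by
      calc b * (x : G) * b⁻¹ = (x : G)⁻¹ * ((x : G) * (b * x * b⁻¹)) := by group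
        _ = (x : G)⁻¹ * ((x' : G) * (b * x' * b⁻¹)) := by rw [h']
        _ = (x : G)⁻¹ * x' * (b * x' * b⁻¹) := by group
    have hcomm := D.ab T0 _ ((T0 : Subgroup G).mul_mem (inv_mem hxT) hxT') _ hyT'
    have hinv : b * ((x' : G)⁻¹ * x) * b⁻¹ = ((x' : G)⁻¹ * x)⁻¹ := by
      calc b * ((x' : G)⁻¹ * x) * b⁻¹ = (b * x' * b⁻¹)⁻¹ * (b * x * b⁻¹) := by group
        _ = (b * x' * b⁻¹)⁻¹ * ((x : G)⁻¹ * x' * (b * x' * b⁻¹)) := by rw [h1]
        _ = (b * x' * b⁻¹)⁻¹ * ((b * x' * b⁻¹) * ((x : G)⁻¹ * x')) := by rw [hcomm]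
        _ = ((x' : G)⁻¹ * x)⁻¹ := by group
    obtain ⟨h2, h3⟩ := (D.mem_M ht).1 huF
    have hu1 : (x' : G)⁻¹ * x = 1 := by
      by_contra hu
      exact D.I_no_comm H1 hb hu h3 hinv ht h2
    apply Subtype.ext
    have := (inv_mul_eq_one.1 hu1)
    exact this.symm
  have h2 := Nat.card_le_card_of_injective _ hinj
  have h3 := D.card_M_le hb ht
  have h4 : A = D.M hb := Subgroup.eq_of_le_of_card_ge inf_le_left (h3.trans h2)
  intro x hx
  rw [← h4] at hx
  exact (mem_inf.mp hx).2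

theorem I_M_le {t : G} (ht : IsInv t) {T0 : Sylow p G} (hFT : D.M ht ≤ (T0 : Subgroup G))
    (T' : Sylow p G) {b : G} (hb : IsInv b) (hbn : b ∈ normalizer ((T' : Subgroup G) : Set G)) :
    D.M hb ≤ (T' : Subgroup G) := by
  have hpp := D.hp
  haveI := Fact.mk hpp
  obtain ⟨g, hg⟩ := MulAction.exists_smul_eq G T0 T'
  have hb0 : IsInv (g⁻¹ * b * g⁻¹⁻¹) := isInv_conj_elt hb g⁻¹
  have hbn0 : g⁻¹ * b * g⁻¹⁻¹ ∈ normalizer ((T0 : Subgroup G) : Set G) := by
    apply mem_normalizer_of_conj_mem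
    intro x hx
    have hx1 : g * x * g⁻¹ ∈ ((g • T0 : Sylow p G) : Subgroup G) := conj_mem_smul_sylow hx
    rw [hg] at hx1
    have hx2 := (mem_normalizer_iff.1 hbn _).1 hx1
    rw [← hg] at hx2
    have hx3 := mem_smul_sylow.1 hx2
    have e : g⁻¹ * b * g⁻¹⁻¹ * x * (g⁻¹ * b * g⁻¹⁻¹)⁻¹ = g⁻¹ * (b * (g * x * g⁻¹) * b⁻¹) * g := by group
    rw [e]; exact hx3
  have h1 := D.I_M_le_T0 H1 ht hFT hb0 hbn0
  intro x hx
  rw [← hg, mem_smul_sylow]
  have h2 := D.mem_M_conj hb hb0 (g := g⁻¹) rfl hx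
  have h3 := h1 h2
  simpa using h3

theorem I_prod_mem {t : G} (ht : IsInv t) (htQ : t ∈ (Q : Subgroup G)) (ht1 : t ≠ 1) {T0 : Sylow p G}
    (hFT : D.M ht ≤ (T0 : Subgroup G)) (hyT : y ∈ (T0 : Subgroup G)) (T' : Sylow p G) {b b' : G}
    (hb : IsInv b) (hb' : IsInv b') (hbn : b ∈ normalizer ((T' : Subgroup G) : Set G))
    (hbn' : b' ∈ normalizer ((T' : Subgroup G) : Set G)) (hne : b ≠ b') :
    b * b' ≠ b' * b ∧ b * b' ∈ (T' : Subgroup G) := by
  have hpp := D.hp
  haveI := Fact.mk hpp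
  have hncomm : b * b' ≠ b' * b := by
    intro hcomm
    obtain ⟨x0, hx0T, hx0⟩ := D.I_no_cent H1 ht htQ ht1 hFT hyT T' hb
    have hbinv := inv_eq_self hb
    have hbinv' := inv_eq_self hb'
    have hbbb := mul_self_inv hb
    have hbbb' := mul_self_inv hb'
    obtain ⟨d, hd⟩ : ∃ d, d = x0⁻¹ * (b * x0 * b⁻¹) := ⟨_, rfl⟩
    have hdT : d ∈ (T' : Subgroup G) := by
      rw [hd]
      exact (T' : Subgroup G).mul_mem (inv_mem hx0T) ((mem_normalizer_iff.1 hbn x0).1 hx0T)
    have hd1 : d ≠ 1 := by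
      intro h0
      rw [hd] at h0
      apply hx0
      have h1 : b * x0 * b⁻¹ = x0 := (inv_mul_eq_one.1 h0).symm
      calc x0 * b = (b * x0 * b⁻¹) * b := by rw [h1]
        _ = b * x0 := by group
    have hdinv : b * d * b⁻¹ = d⁻¹ := by
      rw [hd, mul_inv_rev, inv_inv]
      calc b * (x0⁻¹ * (b * x0 * b⁻¹)) * b⁻¹ = b * x0⁻¹ * b⁻¹ * ((b * b) * x0 * b⁻¹ * b⁻¹) := by group
        _ = b * x0⁻¹ * b⁻¹ * (x0 * b⁻¹ * b⁻¹) := by rw [hbbb]; simp
        _ = b * x0⁻¹ * b⁻¹ * (x0 * (b * b)⁻¹) := by group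
        _ = (b * x0 * b⁻¹)⁻¹ * x0 := by rw [hbbb]; group
    have hdo : Odd (orderOf d) := D.odd_of_isP T'.isPGroup' hdT
    have hd'T : b' * d * b'⁻¹ ∈ (T' : Subgroup G) := (mem_normalizer_iff.1 hbn' d).1 hdT
    have hcd := D.ab T' d hdT _ hd'T
    obtain ⟨e, he⟩ : ∃ e, e = d * (b' * d * b'⁻¹) := ⟨_, rfl⟩
    have heT : e ∈ (T' : Subgroup G) := by rw [he]; exact (T' : Subgroup G).mul_mem hdT hd'T
    have hbcomm : b' * b = b * b' := hcomm.symm
    by_cases he1 : e = 1
    · have hd2 : b' * d * b'⁻¹ = d⁻¹ := by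
        rw [he] at he1
        exact eq_inv_of_mul_eq_one_right he1
      have hz : IsInv (b * b') := by
        refine ⟨?_, ?_⟩
        · intro h0
          apply hne
          have : b = b'⁻¹ := eq_inv_of_mul_eq_one_left h0
          rw [this, hbinv']
        · rw [pow_two]
          calc b * b' * (b * b') = b * (b' * b) * b' := by group
            _ = b * (b * b') * b' := by rw [hbcomm]
            _ = (b * b) * (b' * b') := by group
            _ = 1 := by rw [hbbb, hbbb']; simp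
      refine D.I_no_comm H1 hb hd1 hdo hdinv hz ?_
      have hzd : (b * b') * d * (b * b')⁻¹ = d := by
        calc (b * b') * d * (b * b')⁻¹ = b * (b' * d * b'⁻¹) * b⁻¹ := by group
          _ = b * d⁻¹ * b⁻¹ := by rw [hd2]
          _ = d := conj_inverted_eq hdinv
      calc d * (b * b') = ((b * b') * d * (b * b')⁻¹) * (b * b') := by rw [hzd]
        _ = (b * b') * d := by group
    · have heo : Odd (orderOf e) := D.odd_of_isP T'.isPGroup' heT
      have heinv : b * e * b⁻¹ = e⁻¹ := by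
        rw [he]
        calc b * (d * (b' * d * b'⁻¹)) * b⁻¹ = (b * d * b⁻¹) * ((b * b') * d * (b * b')⁻¹) := by group
          _ = (b * d * b⁻¹) * ((b' * b) * d * (b' * b)⁻¹) := by rw [hbcomm]
          _ = (b * d * b⁻¹) * (b' * (b * d * b⁻¹) * b'⁻¹) := by group
          _ = d⁻¹ * (b' * d⁻¹ * b'⁻¹) := by rw [hdinv]
          _ = (d * (b' * d * b'⁻¹))⁻¹ := by
            rw [mul_inv_rev]
            have h1 : (b' * d * b'⁻¹)⁻¹ = b' * d⁻¹ * b'⁻¹ := by group
            rw [h1]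
            have hcd' : d⁻¹ * (b' * d⁻¹ * b'⁻¹) = (b' * d⁻¹ * b'⁻¹) * d⁻¹ := by
              rw [← h1]
              exact D.ab T' _ (inv_mem hdT) _ (inv_mem hd'T)
            exact hcd'
      refine D.I_no_comm H1 hb he1 heo heinv hb' ?_
      have hb'e : b' * e * b'⁻¹ = e := by
        rw [he]
        calc b' * (d * (b' * d * b'⁻¹)) * b'⁻¹ = (b' * d * b'⁻¹) * ((b' * b') * d * (b' * b')⁻¹) := by group
          _ = (b' * d * b'⁻¹) * d := by rw [hbbb']; simp
          _ = d * (b' * d * b'⁻¹) := hcd.symm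
      calc e * b' = (b' * e * b'⁻¹) * b' := by rw [hb'e]
        _ = b' * e := by group
  refine ⟨hncomm, ?_⟩
  obtain ⟨hwo, hw1⟩ := D.I_odd H1 hb hb' hncomm
  obtain ⟨h1, h2⟩ := prod_inverted hb hb'
  exact mem_sylow_of_norm (D.inverted_isP hb hwo h1) (mul_mem hbn hbn')

theorem I_trans {t : G} (ht : IsInv t) (htQ : t ∈ (Q : Subgroup G)) (ht1 : t ≠ 1) {T0 : Sylow p G}
    (hFT : D.M ht ≤ (T0 : Subgroup G)) (hyT : y ∈ (T0 : Subgroup G)) (T' : Sylow p G) {b b' : G}
    (hb : IsInv b) (hb' : IsInv b') (hbn : b ∈ normalizer ((T' : Subgroup G) : Set G))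
    (hbn' : b' ∈ normalizer ((T' : Subgroup G) : Set G)) :
    ∃ h ∈ (T' : Subgroup G), h * b' * h⁻¹ = b := by
  by_cases hne : b = b'
  · subst hne; exact ⟨1, one_mem _, by simp⟩
  obtain ⟨hnc, hcT⟩ := D.I_prod_mem H1 ht htQ ht1 hFT hyT T' hb hb' hbn hbn' hne
  obtain ⟨hwo, -⟩ := D.I_odd H1 hb hb' hnc
  obtain ⟨-, h2⟩ := prod_inverted hb hb'
  obtain ⟨k, hk⟩ := hwo
  obtain ⟨c, hc⟩ : ∃ c, c = b * b' := ⟨_, rfl⟩
  rw [← hc] at hcT h2 hk
  have hh : c ^ (k + 1) * c ^ (k + 1) = c := by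
    rw [← pow_add, show k + 1 + (k + 1) = orderOf c + 1 by omega, pow_succ, pow_orderOf_eq_one, one_mul]
  have hhz : c ^ (k + 1) ∈ zpowers c := pow_mem (mem_zpowers c) _
  have h3 := inv_of_zpowers h2 hhz
  have h4 := conj_inverted_eq h3
  refine ⟨c ^ (k + 1), pow_mem hcT _, ?_⟩
  have h5 : b' * (c ^ (k + 1))⁻¹ = c ^ (k + 1) * b' := by
    calc b' * (c ^ (k + 1))⁻¹ = (b' * (c ^ (k + 1))⁻¹ * b'⁻¹) * b' := by group
      _ = c ^ (k + 1) * b' := by rw [h4]
  calc c ^ (k + 1) * b' * (c ^ (k + 1))⁻¹ = c ^ (k + 1) * (b' * (c ^ (k + 1))⁻¹) := by group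
    _ = c ^ (k + 1) * (c ^ (k + 1) * b') := by rw [h5]
    _ = c * b' := by rw [← mul_assoc, hh]
    _ = b := by rw [hc, mul_assoc, mul_self_inv hb']; simp

theorem I_false (hNC : ∃ a b : G, IsInv a ∧ IsInv b ∧ a * b ≠ b * a) : False := by
  classical
  have hpp := D.hp
  haveI := Fact.mk hpp
  haveI : Fintype G := Fintype.ofFinite G
  haveI : Fintype (Sylow p G) := Fintype.ofFinite _
  obtain ⟨t, htQ, ht1⟩ := D.exists_Q_ne_one
  have ht : IsInv t := D.isInv_of_mem_Q htQ ht1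
  obtain ⟨T0, hFT, hyT⟩ := D.I_exists_T0 H1 ht htQ
  have hnc := D.I_no_cent H1 ht htQ ht1 hFT hyT
  let Invs : Finset G := Finset.univ.filter IsInv
  let X : Finset (Sylow p G) := Finset.univ.filter fun T' => t ∈ normalizer ((T' : Subgroup G) : Set G)
  let Y : Sylow p G → Finset G := fun T' => Invs.filter fun a => a ∈ normalizer ((T' : Subgroup G) : Set G)
  let NCt : Finset G := Invs.filter fun a => ¬ t * a = a * t
  let Ct : Finset G := Invs.filter fun a => t * a = a * t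
  -- the count of commuting involutions
  have hCt : Ct.card = p := by
    have h1 : Ct = (Finset.univ.filter fun s => s ∈ (Q : Subgroup G)).erase 1 := by
      ext a
      simp only [Ct, Invs, Finset.mem_filter, Finset.mem_univ, true_and, Finset.mem_erase]
      constructor
      · rintro ⟨ha, hat⟩
        exact ⟨ha.1, D.I_mem_Q H1 htQ ht ha.2 hat.symm⟩
      · rintro ⟨ha1, haQ⟩
        exact ⟨D.isInv_of_mem_Q haQ ha1, D.two_subgroup_comm Q.isPGroup' htQ haQ⟩
    rw [h1, Finset.card_erase_of_mem (by simp [one_mem])]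
    have h2 : Nat.card (Q : Subgroup G) = (Finset.univ.filter fun s => s ∈ (Q : Subgroup G)).card :=
      Nat.subtype_card _ (by simp)
    have h3 : Nat.card (Q : Subgroup G) = p + 1 := D.cardQ
    omega
  have hsplit : NCt.card + Ct.card = Invs.card := by
    rw [add_comm]
    exact Finset.card_filter_add_card_filter_not (s := Invs) (fun a => t * a = a * t)
  -- divisibilities
  have hdInv : p ∣ Invs.card := by
    refine p_dvd_card_of_no_fixed (T0 : Subgroup G) T0.isPGroup' Invs ?_ ?_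
    · intro g _ a ha
      simp only [Invs, Finset.mem_filter, Finset.mem_univ, true_and] at ha ⊢
      exact isInv_conj_elt ha g
    · intro a ha
      simp only [Invs, Finset.mem_filter, Finset.mem_univ, true_and] at ha
      obtain ⟨x, hx, hxa⟩ := hnc T0 ha
      refine ⟨x, hx, fun h => hxa ?_⟩
      calc x * a = (x * a * x⁻¹) * x := by group
        _ = a * x := by rw [h]
  have hdY : ∀ T' : Sylow p G, p ∣ (Y T').card := by
    intro T'
    refine p_dvd_card_of_no_fixed (T' : Subgroup G) T'.isPGroup' (Y T') ?_ ?_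
    · intro g hg a ha
      simp only [Y, Invs, Finset.mem_filter, Finset.mem_univ, true_and] at ha ⊢
      exact ⟨isInv_conj_elt ha.1 g,
        mul_mem (mul_mem (Subgroup.le_normalizer hg) ha.2) (inv_mem (Subgroup.le_normalizer hg))⟩
    · intro a ha
      simp only [Y, Invs, Finset.mem_filter, Finset.mem_univ, true_and] at ha
      obtain ⟨x, hx, hxa⟩ := hnc T' ha.1
      refine ⟨x, hx, fun h => hxa ?_⟩
      calc x * a = (x * a * x⁻¹) * x := by group
        _ = a * x := by rw [h]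
  -- the fibration
  have hfib : NCt = X.biUnion fun T' => (Y T').erase t := by
    ext a
    simp only [NCt, X, Y, Invs, Finset.mem_filter, Finset.mem_univ, true_and, Finset.mem_biUnion,
      Finset.mem_erase]
    constructor
    · rintro ⟨ha, hat⟩
      obtain ⟨T, h1, h2, -⟩ := D.I_pair H1 ht ha hat
      refine ⟨T, h1, ?_, ha, h2⟩
      rintro rfl
      exact hat rfl
    · rintro ⟨T, hT, hat, ha, han⟩
      exact ⟨ha, (D.I_prod_mem H1 ht htQ ht1 hFT hyT T ht ha hT han (Ne.symm hat)).1⟩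
  have hdisj : ∀ T1 ∈ X, ∀ T2 ∈ X, T1 ≠ T2 → Disjoint ((Y T1).erase t) ((Y T2).erase t) := by
    intro T1 hT1 T2 hT2 hne
    rw [Finset.disjoint_left]
    intro a ha1 ha2
    apply hne
    simp only [X, Y, Invs, Finset.mem_filter, Finset.mem_univ, true_and, Finset.mem_erase] at hT1 hT2 ha1 ha2
    obtain ⟨hat, ha, h1⟩ := ha1
    obtain ⟨-, -, h2⟩ := ha2
    obtain ⟨hn1, hm1⟩ := D.I_prod_mem H1 ht htQ ht1 hFT hyT T1 ht ha hT1 h1 (Ne.symm hat)
    obtain ⟨-, hm2⟩ := D.I_prod_mem H1 ht htQ ht1 hFT hyT T2 ht ha hT2 h2 (Ne.symm hat)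
    obtain ⟨hwo, hw1⟩ := D.I_odd H1 ht ha hn1
    exact D.sylow_unique ht hw1 hwo (prod_inverted ht ha).1 hm1 hm2
  have hcardfib : NCt.card + X.card = ∑ T' ∈ X, (Y T').card := by
    rw [hfib, Finset.card_biUnion hdisj, Finset.card_eq_sum_ones X, ← Finset.sum_add_distrib]
    refine Finset.sum_congr rfl fun T' hT' => ?_
    have htY : t ∈ Y T' := by
      simp only [X, Y, Invs, Finset.mem_filter, Finset.mem_univ, true_and] at hT' ⊢
      exact ⟨ht, hT'⟩
    rw [Finset.card_erase_of_mem htY]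
    have : 0 < (Y T').card := Finset.card_pos.2 ⟨t, htY⟩
    omega
  have hdX : p ∣ X.card := by
    have h1 : p ∣ NCt.card + X.card := by
      rw [hcardfib]; exact Finset.dvd_sum fun T' _ => hdY T'
    have h2 : p ∣ NCt.card := by
      have h3 : p ∣ NCt.card + Ct.card := by rw [hsplit]; exact hdInv
      rw [hCt] at h3
      exact (Nat.dvd_add_left (dvd_refl p)).1 h3
    exact (Nat.dvd_add_right h2).1 h1
  -- the orbit
  obtain ⟨T1, hT1⟩ : ∃ T1 : Sylow p G, t ∈ normalizer ((T1 : Subgroup G) : Set G) := by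
    obtain ⟨a, b, ha, hb, hab⟩ := hNC
    obtain ⟨g, hg⟩ := D.isInv_conj ha ht
    have hb' := isInv_conj_elt hb g
    have hne : t * (g * b * g⁻¹) ≠ (g * b * g⁻¹) * t := by
      rw [← hg]
      intro h
      apply hab
      have h1 : g * (a * b) * g⁻¹ = g * (b * a) * g⁻¹ := by
        calc g * (a * b) * g⁻¹ = g * a * g⁻¹ * (g * b * g⁻¹) := by group
          _ = g * b * g⁻¹ * (g * a * g⁻¹) := h
          _ = g * (b * a) * g⁻¹ := by group
      exact mul_left_cancel (mul_right_cancel h1)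
    obtain ⟨T, h1, -, -⟩ := D.I_pair H1 ht hb' hne
    exact ⟨T, h1⟩
  have hX : ∀ T' : Sylow p G, T' ∈ X ↔ T' ∈ MulAction.orbit (Q : Subgroup G) T1 := by
    intro T'
    simp only [X, Finset.mem_filter, Finset.mem_univ, true_and]
    constructor
    · intro hT'
      obtain ⟨g, hg⟩ := MulAction.exists_smul_eq G T1 T'
      have hgt : g * t * g⁻¹ ∈ normalizer ((T' : Subgroup G) : Set G) := by
        apply mem_normalizer_of_conj_mem
        intro x hx
        rw [← hg, mem_smul_sylow]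
        rw [← hg, mem_smul_sylow] at hx
        have h1 := (mem_normalizer_iff.1 hT1 _).1 hx
        have e : g⁻¹ * (g * t * g⁻¹ * x * (g * t * g⁻¹)⁻¹) * g = t * (g⁻¹ * x * g) * t⁻¹ := by group
        rw [e]; exact h1
      obtain ⟨h, hhT, hh⟩ := D.I_trans H1 ht htQ ht1 hFT hyT T' ht (isInv_conj_elt ht g) hT' hgt
      have hg1 : (h * g) * t * (h * g)⁻¹ = t := by
        calc (h * g) * t * (h * g)⁻¹ = h * (g * t * g⁻¹) * h⁻¹ := by group
          _ = t := hh
      have hg1T : (h * g) • T1 = T' := by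
        rw [mul_smul, hg]
        exact Sylow.smul_eq_iff_mem_normalizer.2 (Subgroup.le_normalizer hhT)
      obtain ⟨a, b, hab, ha, hb, ha2, hbo⟩ := D.decomp (h * g)
      have hat : t * a * t⁻¹ = a := by
        have h1 : (h * g) * t⁻¹ * (h * g)⁻¹ = t⁻¹ := by
          have := congrArg (·⁻¹) hg1
          simpa [mul_assoc] using this
        have h2 : t * (h * g) * t⁻¹ = h * g := by
          have h3 : (h * g) * t = t * (h * g) := by
            calc (h * g) * t = ((h * g) * t * (h * g)⁻¹) * (h * g) := by group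
              _ = t * (h * g) := by rw [hg1]
          rw [← h3]; group
        exact comm_of_zpowers h2 ha
      have hbt : t * b * t⁻¹ = b := by
        have h2 : t * (h * g) * t⁻¹ = h * g := by
          have h3 : (h * g) * t = t * (h * g) := by
            calc (h * g) * t = ((h * g) * t * (h * g)⁻¹) * (h * g) := by group
              _ = t * (h * g) := by rw [hg1]
          rw [← h3]; group
        exact comm_of_zpowers h2 hb
      have hbM : b ∈ D.M ht := by
        refine (D.mem_M ht).2 ⟨?_, hbo⟩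
        calc b * t = (t * b * t⁻¹) * t := by rw [hbt]
          _ = t * b := by group
      have hbT1 : b ∈ (T1 : Subgroup G) := D.I_M_le H1 ht hFT T1 ht hT1 hbM
      have hbfix : b • T1 = T1 := Sylow.smul_eq_iff_mem_normalizer.2 (Subgroup.le_normalizer hbT1)
      have haQ : a ∈ (Q : Subgroup G) := by
        refine D.I_mem_Q H1 htQ ht ha2 ?_
        calc a * t = (t * a * t⁻¹) * t := by rw [hat]
          _ = t * a := by group
      refine ⟨⟨a, haQ⟩, ?_⟩
      show a • T1 = T'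
      rw [← hg1T, hab, mul_smul, hbfix]
    · rintro ⟨⟨q, hq⟩, rfl⟩
      show t ∈ normalizer (((q • T1 : Sylow p G) : Subgroup G) : Set G)
      apply mem_normalizer_of_conj_mem
      intro x hx
      rw [mem_smul_sylow] at hx ⊢
      have h1 := (mem_normalizer_iff.1 hT1 _).1 hx
      have hqt : q * t = t * q := D.two_subgroup_comm Q.isPGroup' hq htQ
      have e : q⁻¹ * (t * x * t⁻¹) * q = t * (q⁻¹ * x * q) * t⁻¹ := by
        have h3 : q⁻¹ * t = t * q⁻¹ := Commute.inv_left hqt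
        have h4 : t⁻¹ * q = q * t⁻¹ := (Commute.inv_left hqt.symm : _)
        calc q⁻¹ * (t * x * t⁻¹) * q = (q⁻¹ * t) * x * (t⁻¹ * q) := by group
          _ = (t * q⁻¹) * x * (q * t⁻¹) := by rw [h3, h4]
          _ = t * (q⁻¹ * x * q) * t⁻¹ := by group
      rw [e]; exact h1
  have hcard : Nat.card (MulAction.orbit (Q : Subgroup G) T1) = X.card :=
    Nat.subtype_card X (fun x => hX x)
  obtain ⟨n, hn⟩ := IsPGroup.card_orbit Q.isPGroup' T1
  rw [hcard] at hn
  rw [hn] at hdX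
  have h2 := hpp.dvd_of_dvd_pow hdX
  exact D.hp2 ((Nat.prime_dvd_prime_iff_eq hpp Nat.prime_two).1 h2)

end CaseI

end Data

end Cfsg.Agent.Lib.MixP
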