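import Mathlib

/-! A regular graph of degree at least three in which any two distinct vertices have exactly one
common neighbour does not exist (the trace argument of the friendship theorem). -/

set_option autoImplicit false

namespace Cfsg.Agent.Lib.MixP

open Matrix

theorem no_friendship {V : Type*} [Fintype V] [DecidableEq V] (a₀ : V) (adj : V → V → Prop)
    [DecidableRel adj] (hirr : ∀ a, ¬ adj a a) (hsymm : ∀ a b, adj a b → adj b a) {d : ℕ}
    (hd : 3 ≤ d) (hreg : ∀ a, (Finset.univ.filter (fun c => adj a c)).card = d)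
    (hfr : ∀ a b, a ≠ b → (Finset.univ.filter (fun c => adj a c ∧ adj c b)).card = 1) : False := by
  let ℓ := (d - 1).minFac
  haveI hℓp : Fact ℓ.Prime := ⟨Nat.minFac_prime (by omega)⟩
  have hdl : (d : ZMod ℓ) = 1 := by
    have h1 : ((d - 1 : ℕ) : ZMod ℓ) = 0 := (ZMod.natCast_eq_zero_iff _ _).2 (Nat.minFac_dvd _)
    have h2 : ((d - 1 + 1 : ℕ) : ZMod ℓ) = 1 := by
      rw [Nat.cast_add, h1]; simp
    rwa [Nat.sub_add_cancel (by omega)] at h2
  let A : Matrix V V (ZMod ℓ) := Matrix.of fun a b => if adj a b then 1 else 0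
  let J : Matrix V V (ZMod ℓ) := Matrix.of fun _ _ => 1
  have hAA : A * A = J := by
    ext a b
    simp only [Matrix.mul_apply, A, J, of_apply]
    have h1 : ∑ c, (if adj a c then (1 : ZMod ℓ) else 0) * (if adj c b then 1 else 0)
        = ((Finset.univ.filter (fun c => adj a c ∧ adj c b)).card : ZMod ℓ) := by
      rw [Finset.card_filter]
      push_cast
      refine Finset.sum_congr rfl fun c _ => ?_
      by_cases h1 : adj a c <;> by_cases h2 : adj c b <;> simp [h1, h2]
    rw [h1]
    by_cases hab : a = b
    · subst hab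
      have h2 : Finset.univ.filter (fun c => adj a c ∧ adj c a) = Finset.univ.filter (fun c => adj a c) := by
        ext c
        simp only [Finset.mem_filter, Finset.mem_univ, true_and]
        exact ⟨fun h => h.1, fun h => ⟨h, hsymm _ _ h⟩⟩
      rw [h2, hreg, hdl]
    · rw [hfr a b hab]; simp
  have hAJ : A * J = J := by
    ext a b
    simp only [Matrix.mul_apply, A, J, of_apply, mul_one]
    have h1 : ∑ c, (if adj a c then (1 : ZMod ℓ) else 0)
        = ((Finset.univ.filter (fun c => adj a c)).card : ZMod ℓ) := by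
      rw [Finset.card_filter]
      push_cast
      rfl
    rw [h1, hreg, hdl]
  have hpow : ∀ k : ℕ, A ^ (k + 2) = J := by
    intro k
    induction k with
    | zero => simpa [pow_two] using hAA
    | succ k ih =>
      rw [show k + 1 + 2 = (k + 2) + 1 by ring, pow_succ', ih, hAJ]
  have hJJ : J * J = J := by
    calc J * J = (A * A) * J := by rw [hAA]
      _ = A * (A * J) := by rw [Matrix.mul_assoc]
      _ = J := by rw [hAJ, hAJ]
  have hV : (Fintype.card V : ZMod ℓ) = 1 := by
    have h1 := congrFun (congrFun hJJ a₀) a₀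
    simpa [Matrix.mul_apply, J] using h1
  have htr : (A ^ ℓ).trace = A.trace ^ ℓ := ZMod.trace_pow_card A
  have h0 : A.trace = 0 := by
    simp [Matrix.trace, A, hirr]
  have hAl : A ^ ℓ = J := by
    have h1 := hpow (ℓ - 2)
    rwa [Nat.sub_add_cancel hℓp.out.two_le] at h1
  have hJt : J.trace = 1 := by
    simp only [Matrix.trace, J, Matrix.diag, of_apply]
    simpa using hV
  rw [hAl, hJt, h0, zero_pow hℓp.out.ne_zero] at htr
  exact one_ne_zero htr

end Cfsg.Agent.Lib.MixP
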