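import Cfsg.Agent.Lib.MixP.CaseI
import Cfsg.Agent.Lib.MixP.Friend

/-! The second case: the commuting graph of involutions would be a friendship graph. -/

set_option autoImplicit false

namespace Cfsg.Agent.Lib.MixP

open Subgroup
open scoped Pointwise

universe u

variable {G : Type u} [Group G] [Finite G] {p : ℕ} {Q : Sylow 2 G} {y : G}

theorem comm_inverted {b x : G} (hb : IsInv b) :
    b * (x⁻¹ * (b * x * b⁻¹)) * b⁻¹ = (x⁻¹ * (b * x * b⁻¹))⁻¹ := by
  have hbbb := mul_self_inv hb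
  rw [mul_inv_rev, inv_inv]
  calc b * (x⁻¹ * (b * x * b⁻¹)) * b⁻¹ = b * x⁻¹ * b⁻¹ * ((b * b) * x * b⁻¹ * b⁻¹) := by group
    _ = b * x⁻¹ * b⁻¹ * (x * b⁻¹ * b⁻¹) := by rw [hbbb]; simp
    _ = b * x⁻¹ * b⁻¹ * (x * (b * b)⁻¹) := by group
    _ = (b * x * b⁻¹)⁻¹ * x := by rw [hbbb]; group

theorem comm_inverted_ne {b x : G} (hne : x * b ≠ b * x) : x⁻¹ * (b * x * b⁻¹) ≠ 1 := by
  intro h0
  apply hne
  have h1 : b * x * b⁻¹ = x := (inv_mul_eq_one.1 h0).symm
  calc x * b = (b * x * b⁻¹) * b := by rw [h1]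
    _ = b * x := by group

theorem comm_of_conj {a x : G} (h : a * x * a⁻¹ = x) : x * a = a * x := by
  calc x * a = (a * x * a⁻¹) * a := by rw [h]
    _ = a * x := by group

theorem conj_of_comm {a x : G} (h : x * a = a * x) : a * x * a⁻¹ = x := by
  rw [← h]; group

theorem isInv_ne_aux {w : G} (hw : w ≠ 1) (g : G) : g * w * g⁻¹ ≠ 1 := by
  intro h0
  apply hw
  have : g * w * g⁻¹ = g * 1 * g⁻¹ := by rw [h0]; group
  exact mul_left_cancel (mul_right_cancel this)

namespace Data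

variable (D : Data p G Q y)
include D

theorem plus_props {T : Sylow p G} {b b' d : G} (hb : IsInv b) (hb' : IsInv b') (hcomm : b * b' = b' * b)
    (hb'n : b' ∈ normalizer ((T : Subgroup G) : Set G)) (hdT : d ∈ (T : Subgroup G))
    (hdinv : b * d * b⁻¹ = d⁻¹) :
    d * (b' * d * b'⁻¹) ∈ (T : Subgroup G) ∧ b * (d * (b' * d * b'⁻¹)) * b⁻¹ = (d * (b' * d * b'⁻¹))⁻¹ ∧
      (d * (b' * d * b'⁻¹)) * b' = b' * (d * (b' * d * b'⁻¹)) ∧
      (d * (b' * d * b'⁻¹) = 1 → d * (b * b') = (b * b') * d) := by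
  have hbbb' := mul_self_inv hb'
  have hd'T : b' * d * b'⁻¹ ∈ (T : Subgroup G) := (mem_normalizer_iff.1 hb'n d).1 hdT
  have hcd := D.ab T d hdT _ hd'T
  have hbcomm : b' * b = b * b' := hcomm.symm
  refine ⟨(T : Subgroup G).mul_mem hdT hd'T, ?_, ?_, ?_⟩
  · calc b * (d * (b' * d * b'⁻¹)) * b⁻¹ = (b * d * b⁻¹) * ((b * b') * d * (b * b')⁻¹) := by group
      _ = (b * d * b⁻¹) * ((b' * b) * d * (b' * b)⁻¹) := by rw [hbcomm]
      _ = (b * d * b⁻¹) * (b' * (b * d * b⁻¹) * b'⁻¹) := by group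
      _ = d⁻¹ * (b' * d⁻¹ * b'⁻¹) := by rw [hdinv]
      _ = (d * (b' * d * b'⁻¹))⁻¹ := by
        rw [mul_inv_rev]
        have h1 : (b' * d * b'⁻¹)⁻¹ = b' * d⁻¹ * b'⁻¹ := by group
        rw [h1]
        have hcd' : d⁻¹ * (b' * d⁻¹ * b'⁻¹) = (b' * d⁻¹ * b'⁻¹) * d⁻¹ := by
          rw [← h1]
          exact D.ab T _ (inv_mem hdT) _ (inv_mem hd'T)
        exact hcd'
  · apply comm_of_conj
    calc b' * (d * (b' * d * b'⁻¹)) * b'⁻¹ = (b' * d * b'⁻¹) * ((b' * b') * d * (b' * b')⁻¹) := by group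
      _ = (b' * d * b'⁻¹) * d := by rw [hbbb']; simp
      _ = d * (b' * d * b'⁻¹) := hcd.symm
  · intro he1
    have hd2 : b' * d * b'⁻¹ = d⁻¹ := eq_inv_of_mul_eq_one_right he1
    apply (comm_of_conj _)
    calc (b * b') * d * (b * b')⁻¹ = b * (b' * d * b'⁻¹) * b⁻¹ := by group
      _ = b * d⁻¹ * b⁻¹ := by rw [hd2]
      _ = d := conj_inverted_eq hdinv

end Data

/-- The second configuration. -/
structure II (D : Data p G Q y) (t s w : G) (T : Sylow p G) : Prop where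
  ht : IsInv t
  hs : IsInv s
  htQ : t ∈ (Q : Subgroup G)
  hsQ : s ∈ (Q : Subgroup G)
  hw1 : w ≠ 1
  hwc : w * t = t * w
  hwo : Odd (orderOf w)
  hinv : s * w * s⁻¹ = w⁻¹
  hwT : w ∈ (T : Subgroup G)
  hT : ∀ x, x * w = w * x → Odd (orderOf x) → x ∈ (T : Subgroup G)

namespace II

variable {D : Data p G Q y} {t s w : G} {T : Sylow p G} (C : II D t s w T)
include C

theorem hwM : w ∈ D.M C.ht := (D.mem_M C.ht).2 ⟨C.hwc, C.hwo⟩

theorem M_le : D.M C.ht ≤ (T : Subgroup G) := fun x hx =>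
  C.hT x (D.M_comm C.ht hx C.hwM) ((D.mem_M C.ht).1 hx).2

theorem s_ne_t : s ≠ t := by
  intro h
  apply C.hw1
  have h1 := C.hinv
  rw [h] at h1
  exact odd_eq_one_of_self_inv C.hwo h1 (conj_of_comm C.hwc)

theorem hts : t * s = s * t := D.two_subgroup_comm Q.isPGroup' C.htQ C.hsQ

theorem Q_norm {q : G} (hq : q ∈ (Q : Subgroup G)) : q ∈ normalizer ((T : Subgroup G) : Set G) := by
  have hpp := D.hp
  haveI := Fact.mk hpp
  have hqs : q * s = s * q := D.two_subgroup_comm Q.isPGroup' hq C.hsQ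
  have hqt : q * t = t * q := D.two_subgroup_comm Q.isPGroup' hq C.htQ
  have hw'1 : q * w * q⁻¹ ≠ 1 := (isInv_ne_aux C.hw1 q)
  have hw'o : Odd (orderOf (q * w * q⁻¹)) := by rw [orderOf_conj_elt]; exact C.hwo
  have hw'inv : s * (q * w * q⁻¹) * s⁻¹ = (q * w * q⁻¹)⁻¹ := by
    calc s * (q * w * q⁻¹) * s⁻¹ = (s * q) * w * (s * q)⁻¹ := by group
      _ = (q * s) * w * (q * s)⁻¹ := by rw [hqs]
      _ = q * (s * w * s⁻¹) * q⁻¹ := by group
      _ = q * w⁻¹ * q⁻¹ := by rw [C.hinv]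
      _ = (q * w * q⁻¹)⁻¹ := by group
  have hw'M : q * w * q⁻¹ ∈ D.M C.ht := D.mem_M_conj C.ht C.ht (conj_of_comm hqt.symm) C.hwM
  have heq : q • T = T :=
    D.sylow_unique C.hs hw'1 hw'o hw'inv (conj_mem_smul_sylow C.hwT) (C.M_le hw'M)
  exact Sylow.smul_eq_iff_mem_normalizer.1 heq

theorem lemmaZ {t₁ v₁ c : G} (h1Q : t₁ ∈ (Q : Subgroup G)) (h11 : t₁ ≠ 1) (h1t : t₁ ≠ t)
    (hv₁T : v₁ ∈ (T : Subgroup G)) (hv₁1 : v₁ ≠ 1) (hv₁c : v₁ * t₁ = t₁ * v₁) (hc : IsInv c)
    (hcinv : c * v₁ * c⁻¹ = v₁⁻¹) : False := by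
  have hpp := D.hp
  haveI := Fact.mk hpp
  have ht₁ : IsInv t₁ := D.isInv_of_mem_Q h1Q h11
  have hv₁o : Odd (orderOf v₁) := D.odd_of_isP T.isPGroup' hv₁T
  obtain ⟨T', hv'T, hT'⟩ := D.inverted_sylow hc hv₁1 hv₁o hcinv
  have hTT' : T' = T := D.sylow_unique hc hv₁1 hv₁o hcinv hv'T hv₁T
  rw [hTT'] at hT'
  have hv₁M : v₁ ∈ D.M ht₁ := (D.mem_M ht₁).2 ⟨hv₁c, hv₁o⟩
  have hM₁T : D.M ht₁ ≤ (T : Subgroup G) := fun x hx =>
    hT' x (D.M_comm ht₁ hx hv₁M) ((D.mem_M ht₁).1 hx).2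
  obtain ⟨i, hi⟩ := D.trans t C.htQ C.ht.1 t₁ h1Q h11
  obtain ⟨y', hy'⟩ : ∃ y', y' = y ^ i := ⟨_, rfl⟩
  rw [← hy'] at hi
  have hw'M := D.mem_M_conj C.ht ht₁ hi C.hwM
  have hw'T := hM₁T hw'M
  have hs' := isInv_conj_elt C.hs y'
  have hw'inv : (y' * s * y'⁻¹) * (y' * w * y'⁻¹) * (y' * s * y'⁻¹)⁻¹ = (y' * w * y'⁻¹)⁻¹ := by
    calc (y' * s * y'⁻¹) * (y' * w * y'⁻¹) * (y' * s * y'⁻¹)⁻¹ = y' * (s * w * s⁻¹) * y'⁻¹ := by group
      _ = y' * w⁻¹ * y'⁻¹ := by rw [C.hinv]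
      _ = (y' * w * y'⁻¹)⁻¹ := by group
  have hw'1 : y' * w * y'⁻¹ ≠ 1 := isInv_ne_aux C.hw1 y'
  have hw'o : Odd (orderOf (y' * w * y'⁻¹)) := by rw [orderOf_conj_elt]; exact C.hwo
  have heq : y' • T = T := D.sylow_unique hs' hw'1 hw'o hw'inv (conj_mem_smul_sylow C.hwT) hw'T
  have hy'n : y' ∈ normalizer ((T : Subgroup G) : Set G) := Sylow.smul_eq_iff_mem_normalizer.1 heq
  obtain ⟨n, hn⟩ := D.ypow
  have hy'pow : y' ^ p ^ n = 1 := by
    rw [hy', ← pow_mul, mul_comm, pow_mul, hn, one_pow]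
  have hy'T : y' ∈ (T : Subgroup G) := mem_sylow_of_norm (isP_zpowers_of_pow hy'pow) hy'n
  have htn := C.Q_norm C.htQ
  have hc1 : t₁ * t⁻¹ ∈ (T : Subgroup G) := by
    have e : t₁ * t⁻¹ = y' * (t * y'⁻¹ * t⁻¹) := by rw [← hi]; group
    rw [e]
    exact (T : Subgroup G).mul_mem hy'T ((mem_normalizer_iff.1 htn _).1 (inv_mem hy'T))
  have hcQ : t₁ * t⁻¹ ∈ (Q : Subgroup G) := (Q : Subgroup G).mul_mem h1Q (inv_mem C.htQ)
  have h3 := odd_eq_one_of_sq (D.odd_of_isP T.isPGroup' hc1) (D.expQ _ hcQ)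
  exact h1t (mul_inv_eq_one.1 h3)

theorem t_cent {x : G} (hx : x ∈ (T : Subgroup G)) : x * t = t * x := by
  by_contra hne
  have htn := C.Q_norm C.htQ
  have hvT : x⁻¹ * (t * x * t⁻¹) ∈ (T : Subgroup G) :=
    (T : Subgroup G).mul_mem (inv_mem hx) ((mem_normalizer_iff.1 htn _).1 hx)
  have hv1 := comm_inverted_ne hne
  have hvinv := comm_inverted (x := x) C.ht
  obtain ⟨v, hv⟩ : ∃ v, v = x⁻¹ * (t * x * t⁻¹) := ⟨_, rfl⟩
  rw [← hv] at hvT hv1 hvinv
  obtain ⟨heT, heinv, hecomm, he1⟩ := D.plus_props C.ht C.hs C.hts (C.Q_norm C.hsQ) hvT hvinv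
  by_cases he : v * (s * v * s⁻¹) = 1
  · have h1 := he1 he
    have hts1 : t * s ≠ 1 := by
      intro h0
      apply C.s_ne_t
      have h2 : t = s⁻¹ := eq_inv_of_mul_eq_one_left h0
      rw [h2, inv_eq_self C.hs]
    have htst : t * s ≠ t := by
      intro h0
      exact C.hs.1 (mul_left_cancel (h0.trans (mul_one t).symm))
    exact C.lemmaZ ((Q : Subgroup G).mul_mem C.htQ C.hsQ) hts1 htst hvT hv1 h1 C.ht hvinv
  · exact C.lemmaZ C.hsQ C.hs.1 C.s_ne_t heT he hecomm C.ht heinv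

theorem M_eq : D.M C.ht = (T : Subgroup G) := by
  refine le_antisymm C.M_le fun x hx => (D.mem_M C.ht).2 ⟨C.t_cent hx, D.odd_of_isP T.isPGroup' hx⟩

theorem Q_four {q : G} (hq : q ∈ (Q : Subgroup G)) : q = 1 ∨ q = t ∨ q = s ∨ q = t * s := by
  by_contra hcon
  push Not at hcon
  obtain ⟨hq1, hqt, hqs, hqts⟩ := hcon
  have hqi : IsInv q := D.isInv_of_mem_Q hq hq1
  have hsq : s * q = q * s := D.two_subgroup_comm Q.isPGroup' C.hsQ hq
  obtain ⟨heT, heinv, hecomm, he1⟩ := D.plus_props C.hs hqi hsq (C.Q_norm hq) C.hwT C.hinv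
  by_cases he : w * (q * w * q⁻¹) = 1
  · have h1 := he1 he
    have hs1 : s * q ≠ 1 := by
      intro h0
      apply hqs
      have h2 : s = q⁻¹ := eq_inv_of_mul_eq_one_left h0
      rw [h2, inv_eq_self hqi]
    have hs2 : s * q ≠ t := by
      intro h0
      apply hqts
      have h2 : q = s⁻¹ * t := by rw [← h0]; group
      rw [h2, inv_eq_self C.hs, C.hts]
    exact C.lemmaZ ((Q : Subgroup G).mul_mem C.hsQ hq) hs1 hs2 C.hwT C.hw1 h1 C.hs C.hinv
  · exact C.lemmaZ hq hq1 hqt heT he hecomm C.hs heinv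

theorem p_le : p + 1 ≤ 4 := by
  classical
  haveI : Fintype G := Fintype.ofFinite G
  have h2 : Nat.card (Q : Subgroup G) = (Finset.univ.filter fun s => s ∈ (Q : Subgroup G)).card :=
    Nat.subtype_card _ (by simp)
  have h3 : Nat.card (Q : Subgroup G) = p + 1 := D.cardQ
  rw [← h3, h2]
  have h4 : (Finset.univ.filter fun s => s ∈ (Q : Subgroup G)) ⊆ ({1, t, s, t * s} : Finset G) := by
    intro q hq
    simp only [Finset.mem_filter, Finset.mem_univ, true_and] at hq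
    have := C.Q_four hq
    simpa using this
  exact (Finset.card_le_card h4).trans Finset.card_le_four

theorem triple {a v v' : G} (ha : IsInv a) (hv : IsInv v) (hv' : IsInv v') (hav : a * v = v * a)
    (hav' : a * v' = v' * a) (hvv' : v * v' = v' * v) (h1 : a ≠ v) (h2 : a ≠ v') (h3 : v ≠ v') :
    a = v * v' := by
  classical
  haveI : Fintype G := Fintype.ofFinite G
  by_contra hne
  have hvn : v ∈ normalizer ((zpowers v' : Subgroup G) : Set G) := by
    apply mem_normalizer_of_conj_mem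
    intro x hx
    rw [comm_of_zpowers (conj_of_comm hvv'.symm) hx]; exact hx
  have hU1 : IsPGroup 2 ((zpowers v ⊔ zpowers v' : Subgroup G)) :=
    (D.isP_zpowers_inv hv.2).to_sup_of_normal_right' (D.isP_zpowers_inv hv'.2) (by rw [zpowers_le]; exact hvn)
  have hU1c : (zpowers v ⊔ zpowers v' : Subgroup G) ≤ centralizer ({a} : Set G) := by
    refine sup_le ?_ ?_
    · rw [zpowers_le, mem_centralizer_singleton_iff]; exact hav.symm
    · rw [zpowers_le, mem_centralizer_singleton_iff]; exact hav'.symm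
  have han : a ∈ normalizer (((zpowers v ⊔ zpowers v' : Subgroup G) : Subgroup G) : Set G) := by
    apply mem_normalizer_of_conj_mem
    intro x hx
    have h4 : x * a = a * x := mem_centralizer_singleton_iff.1 (hU1c hx)
    rw [conj_of_comm h4]; exact hx
  have hU2 : IsPGroup 2 ((zpowers a ⊔ (zpowers v ⊔ zpowers v') : Subgroup G)) :=
    (D.isP_zpowers_inv ha.2).to_sup_of_normal_right' hU1 (by rw [zpowers_le]; exact han)
  obtain ⟨U, hU⟩ : ∃ U : Subgroup G, U = (zpowers a ⊔ (zpowers v ⊔ zpowers v') : Subgroup G) := ⟨_, rfl⟩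
  rw [← hU] at hU2
  have hle := D.card_two_le hU2
  have hp4 := C.p_le
  have haU : a ∈ U := by rw [hU]; exact mem_sup_left (mem_zpowers a)
  have hvU : v ∈ U := by rw [hU]; exact mem_sup_right (mem_sup_left (mem_zpowers v))
  have hv'U : v' ∈ U := by rw [hU]; exact mem_sup_right (mem_sup_right (mem_zpowers v'))
  have h5 : Nat.card U = (Finset.univ.filter fun s => s ∈ U).card := Nat.subtype_card _ (by simp)
  have hsub : ({1, v, v', v * v', a} : Finset G) ⊆ Finset.univ.filter fun s => s ∈ U := by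
    intro z hz
    simp only [Finset.mem_insert, Finset.mem_singleton] at hz
    simp only [Finset.mem_filter, Finset.mem_univ, true_and]
    rcases hz with rfl | rfl | rfl | rfl | rfl
    · exact one_mem _
    · exact hvU
    · exact hv'U
    · exact U.mul_mem hvU hv'U
    · exact haU
  have hcard := Finset.card_le_card hsub
  have h5' : ({1, v, v', v * v', a} : Finset G).card = 5 := by
    have hn1 : v * v' ≠ 1 := by
      intro h0
      apply h3
      have h2 : v = v'⁻¹ := eq_inv_of_mul_eq_one_left h0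
      rw [h2, inv_eq_self hv']
    have hn2 : v * v' ≠ v := fun h0 => hv'.1 (mul_left_cancel (h0.trans (mul_one v).symm))
    have hn3 : v * v' ≠ v' := fun h0 => hv.1 (mul_right_cancel (h0.trans (one_mul v').symm))
    rw [Finset.card_insert_of_notMem, Finset.card_insert_of_notMem, Finset.card_insert_of_notMem,
      Finset.card_insert_of_notMem, Finset.card_singleton]
    · simp only [Finset.mem_singleton]; exact fun h0 => hne h0.symm
    · simp only [Finset.mem_insert, Finset.mem_singleton, not_or]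
      exact ⟨fun h0 => hn3 h0.symm, fun h0 => h2 h0.symm⟩
    · simp only [Finset.mem_insert, Finset.mem_singleton, not_or]
      exact ⟨h3, fun h0 => hn2 h0.symm, fun h0 => h1 h0.symm⟩
    · simp only [Finset.mem_insert, Finset.mem_singleton, not_or]
      exact ⟨fun h0 => hv.1 h0.symm, fun h0 => hv'.1 h0.symm, fun h0 => hn1 h0.symm, fun h0 => ha.1 h0.symm⟩
  rw [h5'] at hcard
  omega

theorem smul_eq_M (g : G) :
    ((g • T : Sylow p G) : Subgroup G) = D.M (isInv_conj_elt C.ht g) := by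
  ext x
  rw [mem_smul_sylow, ← C.M_eq]
  constructor
  · intro hx
    have h1 := D.mem_M_conj C.ht (isInv_conj_elt C.ht g) (g := g) rfl hx
    have e : g * (g⁻¹ * x * g) * g⁻¹ = x := by group
    rwa [e] at h1
  · intro hx
    have hb : g⁻¹ * (g * t * g⁻¹) * g⁻¹⁻¹ = t := by group
    have h1 := D.mem_M_conj (isInv_conj_elt C.ht g) C.ht hb hx
    simpa using h1

theorem all_M_sylow {a : G} (ha : IsInv a) : ∃ Ta : Sylow p G, (Ta : Subgroup G) = D.M ha := by
  obtain ⟨g, rfl⟩ := D.isInv_conj C.ht ha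
  exact ⟨g • T, C.smul_eq_M g⟩

theorem all_sylow_M (T' : Sylow p G) : ∃ (a : G) (ha : IsInv a), (T' : Subgroup G) = D.M ha := by
  have hpp := D.hp
  haveI := Fact.mk hpp
  obtain ⟨g, rfl⟩ := MulAction.exists_smul_eq G T T'
  exact ⟨_, isInv_conj_elt C.ht g, C.smul_eq_M g⟩

theorem unique_cent_t {c : G} (hc : IsInv c) (h : ∀ x ∈ (T : Subgroup G), x * c = c * x) : c = t := by
  by_contra hne
  by_cases hct : c * t = t * c
  · obtain ⟨U, hU⟩ := (D.isP_zpowers_inv hc.2).to_sup_of_normal_right' (D.isP_zpowers_inv C.ht.2)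
      (by
        rw [zpowers_le]
        apply mem_normalizer_of_conj_mem
        intro x hx
        rw [comm_of_zpowers (conj_of_comm hct.symm) hx]; exact hx) |>.exists_le_sylow
    have hcU : c ∈ (U : Subgroup G) := hU (mem_sup_left (mem_zpowers c))
    have htU : t ∈ (U : Subgroup G) := hU (mem_sup_right (mem_zpowers t))
    refine D.no_full_sylow C.hs C.hw1 C.hwo C.hinv U fun u hu => ?_
    by_cases hu1 : u = 1
    · subst hu1; simp
    have hui : IsInv u := ⟨hu1, D.two_subgroup_sq U.isPGroup' hu⟩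
    have huc := D.two_subgroup_comm U.isPGroup' hu hcU
    have hut := D.two_subgroup_comm U.isPGroup' hu htU
    have hwc' : c * w = w * c := (h w C.hwT).symm
    by_cases h1 : u = c
    · rw [h1]; exact hwc'
    by_cases h2 : u = t
    · rw [h2]; exact C.hwc.symm
    have h3 := C.triple hui hc C.ht huc hut hct h1 h2 hne
    rw [h3]
    calc c * t * w = c * (t * w) := by group
      _ = c * (w * t) := by rw [C.hwc]
      _ = (c * w) * t := by group
      _ = (w * c) * t := by rw [hwc']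
      _ = w * (c * t) := by group
  · obtain ⟨a, b, hc', ha2, hab, hb1, hbo, hbt, hbt', hat, hat', hamem, hbmem⟩ := D.noncomm hc C.ht hct
    have hcz : w * (c * t) * w⁻¹ = c * t := by
      apply conj_of_comm
      calc c * t * w = c * (t * w) := by group
        _ = c * (w * t) := by rw [C.hwc]
        _ = (c * w) * t := by group
        _ = (w * c) * t := by rw [h w C.hwT]
        _ = w * (c * t) := by group
    have hbw : w * b * w⁻¹ = b := comm_of_zpowers hcz hbmem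
    have hbT : b ∈ (T : Subgroup G) := C.hT b (comm_of_conj hbw) hbo
    exact hb1 (odd_eq_one_of_self_inv hbo hbt' (conj_of_comm (C.t_cent hbT)))

theorem unique_cent {a c : G} (ha : IsInv a) (hc : IsInv c) (h : ∀ x ∈ D.M ha, x * c = c * x) : c = a := by
  obtain ⟨g, hg⟩ := D.isInv_conj ha C.ht
  have h1 : g * c * g⁻¹ = t := by
    refine C.unique_cent_t (isInv_conj_elt hc g) fun x hx => ?_
    rw [← C.M_eq] at hx
    have hb : g⁻¹ * t * g⁻¹⁻¹ = a := by rw [← hg]; group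
    have h2 := D.mem_M_conj C.ht ha hb hx
    have h3 := h _ h2
    calc x * (g * c * g⁻¹) = g * ((g⁻¹ * x * g⁻¹⁻¹) * c) * g⁻¹ := by group
      _ = g * (c * (g⁻¹ * x * g⁻¹⁻¹)) * g⁻¹ := by rw [h3]
      _ = g * c * g⁻¹ * x := by group
  rw [← hg] at h1
  exact mul_left_cancel (mul_right_cancel h1)

theorem norm_cent {a g : G} (ha : IsInv a) (hg : g ∈ normalizer ((D.M ha : Subgroup G) : Set G)) :
    g * a * g⁻¹ = a := by
  refine C.unique_cent ha (isInv_conj_elt ha g) fun x hx => ?_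
  have h1 : g⁻¹ * x * g⁻¹⁻¹ ∈ D.M ha := (mem_normalizer_iff.1 (inv_mem hg) x).1 hx
  obtain ⟨h2, -⟩ := (D.mem_M ha).1 h1
  calc x * (g * a * g⁻¹) = g * ((g⁻¹ * x * g⁻¹⁻¹) * a) * g⁻¹ := by group
    _ = g * (a * (g⁻¹ * x * g⁻¹⁻¹)) * g⁻¹ := by rw [h2]
    _ = g * a * g⁻¹ * x := by group

theorem sylow_norm_inv {a b : G} {T' : Sylow p G} (ha : IsInv a) (hb1 : b ≠ 1) (hbo : Odd (orderOf b))
    (hinv : a * b * a⁻¹ = b⁻¹) (hbT : b ∈ (T' : Subgroup G)) :
    a ∈ normalizer ((T' : Subgroup G) : Set G) := by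
  have hpp := D.hp
  haveI := Fact.mk hpp
  have h1 : b⁻¹ ≠ 1 := inv_ne_one.2 hb1
  have h2 : Odd (orderOf b⁻¹) := by rw [orderOf_inv]; exact hbo
  have h3 : a * b⁻¹ * a⁻¹ = (b⁻¹)⁻¹ := by rw [inv_inv]; exact conj_inverted_eq hinv
  have h4 : b⁻¹ ∈ ((a • T' : Sylow p G) : Subgroup G) := by
    have := conj_mem_smul_sylow (g := a) hbT
    rwa [hinv] at this
  have heq : a • T' = T' := D.sylow_unique ha h1 h2 h3 h4 (inv_mem hbT)
  exact Sylow.smul_eq_iff_mem_normalizer.1 heq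

theorem common_exists {a b : G} (ha : IsInv a) (hb : IsInv b) (hab : a ≠ b) :
    ∃ c, IsInv c ∧ a ≠ c ∧ a * c = c * a ∧ c ≠ b ∧ c * b = b * c := by
  have hpp := D.hp
  haveI := Fact.mk hpp
  by_cases hcomm : a * b = b * a
  · have hn1 : a * b ≠ 1 := by
      intro h0
      apply hab
      have h2 : a = b⁻¹ := eq_inv_of_mul_eq_one_left h0
      rw [h2, inv_eq_self hb]
    refine ⟨a * b, ⟨hn1, ?_⟩, ?_, ?_, ?_, ?_⟩
    · rw [pow_two]
      calc a * b * (a * b) = a * (b * a) * b := by group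
        _ = a * (a * b) * b := by rw [hcomm]
        _ = (a * a) * (b * b) := by group
        _ = 1 := by rw [mul_self_inv ha, mul_self_inv hb]; simp
    · intro h0
      exact hb.1 (mul_left_cancel (h0.symm.trans (mul_one a).symm))
    · calc a * (a * b) = a * (b * a) := by rw [hcomm]
        _ = a * b * a := by group
    · intro h0
      exact ha.1 (mul_right_cancel (h0.trans (one_mul b).symm))
    · calc a * b * b = (b * a) * b := by rw [hcomm]
        _ = b * (a * b) := by group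
  obtain ⟨α, β, hc, hα2, hαβ, hβ1, hβo, hβa, hβb, hαa, hαb, -, -⟩ := D.noncomm ha hb hcomm
  by_cases hα1 : α = 1
  · subst hα1
    obtain ⟨T', hβT, -⟩ := D.inverted_sylow ha hβ1 hβo hβa
    obtain ⟨v, hv, hvT⟩ := C.all_sylow_M T'
    have han := C.sylow_norm_inv ha hβ1 hβo hβa hβT
    have hbn := C.sylow_norm_inv hb hβ1 hβo hβb hβT
    rw [hvT] at han hbn hβT
    have hav := C.norm_cent hv han
    have hbv := C.norm_cent hv hbn
    obtain ⟨hβv, -⟩ := (D.mem_M hv).1 hβT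
    refine ⟨v, hv, ?_, ?_, ?_, ?_⟩
    · rintro rfl
      exact hβ1 (odd_eq_one_of_self_inv hβo hβa (conj_of_comm hβv))
    · exact (comm_of_conj hav).symm
    · rintro rfl
      exact hβ1 (odd_eq_one_of_self_inv hβo hβb (conj_of_comm hβv))
    · exact comm_of_conj hbv
  · have hαi : IsInv α := ⟨hα1, hα2⟩
    refine ⟨α, hαi, ?_, ?_, ?_, ?_⟩
    · intro h0
      rw [← h0] at hc
      have h1 : b = β := mul_left_cancel hc
      apply hb.1
      rw [h1] at hb ⊢
      exact odd_eq_one_of_sq hβo hb.2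
    · exact (comm_of_conj hαa).symm
    · intro h0
      have e : a * b = β * b := by rw [hc, hαβ, h0]
      have h1 : a = β := mul_right_cancel e
      exact ha.1 (h1.trans (odd_eq_one_of_sq hβo (by rw [← h1]; exact ha.2)))
    · exact comm_of_conj hαb

theorem common_unique {a b c c' : G} (ha : IsInv a) (hb : IsInv b) (hc : IsInv c) (hc' : IsInv c')
    (hab : a ≠ b) (h1 : a ≠ c) (h2 : a * c = c * a) (h3 : c ≠ b) (h4 : c * b = b * c)
    (h1' : a ≠ c') (h2' : a * c' = c' * a) (h3' : c' ≠ b) (h4' : c' * b = b * c') : c = c' := by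
  have hpp := D.hp
  haveI := Fact.mk hpp
  by_contra hne
  by_cases hcc : c * c' = c' * c
  · have e1 := C.triple ha hc hc' h2 h2' hcc h1 h1' hne
    have e2 := C.triple hb hc hc' h4.symm h4'.symm hcc h3.symm h3'.symm hne
    exact hab (e1.trans e2.symm)
  · obtain ⟨α, β, hcp, hα2, hαβ, hβ1, hβo, hβa, hβb, hαa, hαb, -, hβm⟩ := D.noncomm hc hc' hcc
    have hz : ∀ {z : G}, z * c = c * z → z * c' = c' * z → z * (c * c') * z⁻¹ = c * c' := by
      intro z h5 h6
      apply conj_of_comm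
      calc c * c' * z = c * (c' * z) := by group
        _ = c * (z * c') := by rw [h6]
        _ = (c * z) * c' := by group
        _ = (z * c) * c' := by rw [h5]
        _ = z * (c * c') := by group
    have hβA : β ∈ D.M ha := by
      refine (D.mem_M ha).2 ⟨comm_of_conj (comm_of_zpowers (hz ?_ ?_) hβm), hβo⟩
      · exact h2
      · exact h2'
    have hβB : β ∈ D.M hb := by
      refine (D.mem_M hb).2 ⟨comm_of_conj (comm_of_zpowers (hz ?_ ?_) hβm), hβo⟩
      · exact h4.symm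
      · exact h4'.symm
    obtain ⟨Ta, hTa⟩ := C.all_M_sylow ha
    obtain ⟨Tb, hTb⟩ := C.all_M_sylow hb
    have heq : Ta = Tb := D.sylow_unique hc hβ1 hβo hβa (by rw [hTa]; exact hβA) (by rw [hTb]; exact hβB)
    apply hab
    symm
    refine C.unique_cent ha hb fun x hx => ?_
    have hx' : x ∈ D.M hb := by rw [← hTb, ← heq, hTa]; exact hx
    exact ((D.mem_M hb).1 hx').1

theorem friend_false : False := by
  classical
  haveI : Fintype G := Fintype.ofFinite G
  let V : Type u := {x : G // IsInv x}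
  haveI : Fintype V := Fintype.ofFinite V
  let adj : V → V → Prop := fun a b => (a : G) ≠ b ∧ (a : G) * b = b * a
  have hirr : ∀ a, ¬ adj a a := fun a h => h.1 rfl
  have hsymm : ∀ a b, adj a b → adj b a := fun a b h => ⟨h.1.symm, h.2.symm⟩
  let t₀ : V := ⟨t, C.ht⟩
  let nb : V → Finset V := fun a => Finset.univ.filter fun c => adj a c
  have hreg : ∀ a, (nb a).card = (nb t₀).card := by
    intro a
    obtain ⟨g, hg⟩ := D.isInv_conj a.2 C.ht
    refine Finset.card_bij (fun c _ => (⟨g * c * g⁻¹, isInv_conj_elt c.2 g⟩ : V)) ?_ ?_ ?_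
    · intro c hc
      simp only [nb, adj, t₀, Finset.mem_filter, Finset.mem_univ, true_and] at hc ⊢
      obtain ⟨h1, h2⟩ := hc
      refine ⟨?_, ?_⟩
      · rw [← hg]
        intro h0
        exact h1 (mul_left_cancel (mul_right_cancel h0))
      · rw [← hg]
        calc g * (a : G) * g⁻¹ * (g * c * g⁻¹) = g * ((a : G) * c) * g⁻¹ := by group
          _ = g * ((c : G) * a) * g⁻¹ := by rw [h2]
          _ = g * c * g⁻¹ * (g * a * g⁻¹) := by group
    · intro c _ c' _ h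
      have h1 : g * (c : G) * g⁻¹ = g * c' * g⁻¹ := congrArg Subtype.val h
      exact Subtype.ext (mul_left_cancel (mul_right_cancel h1))
    · intro c hc
      simp only [nb, adj, t₀, Finset.mem_filter, Finset.mem_univ, true_and] at hc
      obtain ⟨h1, h2⟩ := hc
      refine ⟨⟨g⁻¹ * c * g⁻¹⁻¹, isInv_conj_elt c.2 g⁻¹⟩, ?_, ?_⟩
      · simp only [nb, adj, Finset.mem_filter, Finset.mem_univ, true_and]
        have ha : (a : G) = g⁻¹ * t * g⁻¹⁻¹ := by rw [← hg]; group
        refine ⟨?_, ?_⟩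
        · rw [ha]
          intro h0
          exact h1 (mul_left_cancel (mul_right_cancel h0))
        · rw [ha]
          calc g⁻¹ * t * g⁻¹⁻¹ * (g⁻¹ * c * g⁻¹⁻¹) = g⁻¹ * (t * c) * g⁻¹⁻¹ := by group
            _ = g⁻¹ * ((c : G) * t) * g⁻¹⁻¹ := by rw [h2]
            _ = g⁻¹ * c * g⁻¹⁻¹ * (g⁻¹ * t * g⁻¹⁻¹) := by group
      · apply Subtype.ext
        show g * (g⁻¹ * (c : G) * g⁻¹⁻¹) * g⁻¹ = c
        group
  have h3 : 3 ≤ (nb t₀).card := by
    have hts1 : t * s ≠ 1 := by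
      intro h0
      apply C.s_ne_t
      have h2 : t = s⁻¹ := eq_inv_of_mul_eq_one_left h0
      rw [h2, inv_eq_self C.hs]
    have htsi : IsInv (t * s) := D.isInv_of_mem_Q ((Q : Subgroup G).mul_mem C.htQ C.hsQ) hts1
    have hsi' : IsInv (w * s * w⁻¹) := isInv_conj_elt C.hs w
    have e1 : w * s * w⁻¹ = w * w * s := by
      have h5 : s * w⁻¹ = w * s := by
        have h6 := conj_inverted_eq C.hinv
        calc s * w⁻¹ = (s * w⁻¹ * s⁻¹) * s := by group
          _ = w * s := by rw [h6]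
      calc w * s * w⁻¹ = w * (s * w⁻¹) := by group
        _ = w * (w * s) := by rw [h5]
        _ = w * w * s := by group
    have hwM := C.hwM
    have hw2 : w * w ∈ D.M C.ht := mul_mem hwM hwM
    obtain ⟨hw2c, hw2o⟩ := (D.mem_M C.ht).1 hw2
    have hww1 : w * w ≠ 1 := by
      intro h0
      exact C.hw1 (odd_eq_one_of_sq C.hwo (by rw [pow_two]; exact h0))
    refine Finset.two_lt_card_iff.2 ⟨⟨s, C.hs⟩, ⟨t * s, htsi⟩, ⟨w * s * w⁻¹, hsi'⟩, ?_, ?_, ?_, ?_, ?_, ?_⟩
    · simp only [nb, adj, t₀, Finset.mem_filter, Finset.mem_univ, true_and]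
      exact ⟨C.s_ne_t.symm, C.hts⟩
    · simp only [nb, adj, t₀, Finset.mem_filter, Finset.mem_univ, true_and]
      refine ⟨fun h0 => C.hs.1 (mul_left_cancel (h0.symm.trans (mul_one t).symm)), ?_⟩
      exact (D.two_subgroup_comm Q.isPGroup' C.htQ ((Q : Subgroup G).mul_mem C.htQ C.hsQ))
    · simp only [nb, adj, t₀, Finset.mem_filter, Finset.mem_univ, true_and]
      refine ⟨?_, ?_⟩
      · intro h0
        apply C.s_ne_t
        have h1 : s = w⁻¹ * t * w := by rw [h0]; group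
        rw [h1]
        calc w⁻¹ * t * w = w⁻¹ * (t * w) := by group
          _ = w⁻¹ * (w * t) := by rw [C.hwc]
          _ = t := by group
      · have h1 : t * (w * s * w⁻¹) = (w * s * w⁻¹) * t := by
          have hwc := C.hwc
          have hwci : w⁻¹ * t = t * w⁻¹ := by
            calc w⁻¹ * t = w⁻¹ * (t * w) * w⁻¹ := by group
              _ = w⁻¹ * (w * t) * w⁻¹ := by rw [hwc]
              _ = t * w⁻¹ := by group
          calc t * (w * s * w⁻¹) = (t * w) * s * w⁻¹ := by group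
            _ = (w * t) * s * w⁻¹ := by rw [hwc]
            _ = w * (t * s) * w⁻¹ := by group
            _ = w * (s * t) * w⁻¹ := by rw [C.hts]
            _ = w * s * (t * w⁻¹) := by group
            _ = w * s * (w⁻¹ * t) := by rw [hwci]
            _ = w * s * w⁻¹ * t := by group
        exact h1
    · intro h0
      have h1 : s = t * s := congrArg Subtype.val h0
      exact C.ht.1 (mul_right_cancel (h1.symm.trans (one_mul s).symm))
    · intro h0
      have h1 : s = w * s * w⁻¹ := congrArg Subtype.val h0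
      rw [e1] at h1
      exact hww1 (mul_right_cancel (h1.symm.trans (one_mul s).symm))
    · intro h0
      have h1 : t * s = w * s * w⁻¹ := congrArg Subtype.val h0
      rw [e1] at h1
      have h2 : t = w * w := mul_right_cancel h1
      rw [← h2] at hw2o
      rw [orderOf_eq_prime C.ht.2 C.ht.1] at hw2o
      exact absurd hw2o (by decide)
  have hfr : ∀ a b : V, a ≠ b → (Finset.univ.filter fun c => adj a c ∧ adj c b).card = 1 := by
    intro a b hab
    have hab' : (a : G) ≠ b := fun h => hab (Subtype.ext h)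
    obtain ⟨c, hc, h1, h2, h3, h4⟩ := C.common_exists a.2 b.2 hab'
    refine Finset.card_eq_one.2 ⟨⟨c, hc⟩, ?_⟩
    ext c'
    simp only [Finset.mem_filter, Finset.mem_univ, true_and, Finset.mem_singleton, adj]
    constructor
    · rintro ⟨⟨h5, h6⟩, h7, h8⟩
      apply Subtype.ext
      exact C.common_unique a.2 b.2 c'.2 hc hab' h5 h6 h7 h8 h1 h2 h3 h4
    · rintro rfl
      exact ⟨⟨h1, h2⟩, h3, h4⟩
  exact no_friendship t₀ adj hirr hsymm h3 hreg hfr

end II

namespace Data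

variable (D : Data p G Q y)
include D

theorem caseB_false (hQ : ¬ (Q : Subgroup G).Normal) : False := by
  have hpp := D.hp
  haveI := Fact.mk hpp
  have hNC : ∃ a b : G, IsInv a ∧ IsInv b ∧ a * b ≠ b * a := by
    by_contra hcon
    push Not at hcon
    exact hQ (D.normal_of_all_comm hcon)
  by_cases H1 : ∀ t s : G, IsInv t → IsInv s → t * s = s * t →
      ∀ x, x * t = t * x → Odd (orderOf x) → x * s = s * x
  · exact D.I_false H1 hNC
  push Not at H1
  obtain ⟨t, s, ht, hs, hts, x, hxt, hxo, hxs⟩ := H1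
  have hsn : s ∈ normalizer ((zpowers t : Subgroup G) : Set G) := by
    apply mem_normalizer_of_conj_mem
    intro z hz
    rw [comm_of_zpowers (conj_of_comm hts) hz]; exact hz
  have hU : IsPGroup 2 ((zpowers s ⊔ zpowers t : Subgroup G)) :=
    (D.isP_zpowers_inv hs.2).to_sup_of_normal_right' (D.isP_zpowers_inv ht.2) (by rw [zpowers_le]; exact hsn)
  obtain ⟨g, hg⟩ := D.conj_to_Q hU
  have htQ := hg t (mem_sup_right (mem_zpowers t))
  have hsQ := hg s (mem_sup_left (mem_zpowers s))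
  have ht' := isInv_conj_elt ht g
  have hs' := isInv_conj_elt hs g
  have hxM : g * x * g⁻¹ ∈ D.M ht' := by
    refine (D.mem_M ht').2 ⟨?_, by rwa [orderOf_conj_elt]⟩
    calc g * x * g⁻¹ * (g * t * g⁻¹) = g * (x * t) * g⁻¹ := by group
      _ = g * (t * x) * g⁻¹ := by rw [hxt]
      _ = g * t * g⁻¹ * (g * x * g⁻¹) := by group
  have hst' : (g * s * g⁻¹) * (g * t * g⁻¹) * (g * s * g⁻¹)⁻¹ = g * t * g⁻¹ :=
    conj_of_comm (D.two_subgroup_comm Q.isPGroup' htQ hsQ)
  have hxM' := D.mem_M_conj ht' ht' hst' hxM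
  have hwM : (g * x * g⁻¹)⁻¹ * ((g * s * g⁻¹) * (g * x * g⁻¹) * (g * s * g⁻¹)⁻¹) ∈ D.M ht' :=
    mul_mem (inv_mem hxM) hxM'
  obtain ⟨hwc, hwo⟩ := (D.mem_M ht').1 hwM
  have hne : g * x * g⁻¹ * (g * s * g⁻¹) ≠ (g * s * g⁻¹) * (g * x * g⁻¹) := by
    intro h
    apply hxs
    have h1 : g * (x * s) * g⁻¹ = g * (s * x) * g⁻¹ := by
      calc g * (x * s) * g⁻¹ = g * x * g⁻¹ * (g * s * g⁻¹) := by group
        _ = g * s * g⁻¹ * (g * x * g⁻¹) := h
        _ = g * (s * x) * g⁻¹ := by group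
    exact mul_left_cancel (mul_right_cancel h1)
  have hw1 := comm_inverted_ne hne
  have hinv := comm_inverted (x := g * x * g⁻¹) hs'
  obtain ⟨T, hwT, hT⟩ := D.inverted_sylow hs' hw1 hwo hinv
  have C : II D (g * t * g⁻¹) (g * s * g⁻¹) _ T :=
    ⟨ht', hs', htQ, hsQ, hw1, hwc, hwo, hinv, hwT, hT⟩
  exact C.friend_false

end Data

end Cfsg.Agent.Lib.MixP
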