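import Cfsg.Agent.Lib.MixP.Basic

/-! Centralizers of involutions and of inverted elements, for the data `Data`. -/

set_option autoImplicit false

namespace Cfsg.Agent.Lib.MixP

open Subgroup
open scoped Pointwise

universe u

variable {G : Type u} [Group G] [Finite G] {p : ℕ} {Q : Sylow 2 G} {y : G}

theorem mem_normalizer_of_conj_mem {K : Subgroup G} {g : G} (h : ∀ x ∈ K, g * x * g⁻¹ ∈ K) :
    g ∈ normalizer (K : Set G) := by
  rw [mem_normalizer_iff]
  intro x
  refine ⟨h x, fun hx => ?_⟩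
  have hn : ∀ n : ℕ, ∀ z ∈ K, g ^ n * z * (g ^ n)⁻¹ ∈ K := by
    intro n
    induction n with
    | zero => intro z hz; simpa using hz
    | succ n ih =>
      intro z hz
      have h1 := h _ (ih z hz)
      have h2 : g ^ (n + 1) * z * (g ^ (n + 1))⁻¹ = g * (g ^ n * z * (g ^ n)⁻¹) * g⁻¹ := by
        rw [pow_succ']; group
      rw [h2]; exact h1
  have h1 := hn (orderOf g - 1) _ hx
  have h2 : g ^ (orderOf g - 1) * g = 1 := by
    rw [← pow_succ, Nat.sub_add_cancel (orderOf_pos g), pow_orderOf_eq_one]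
  have h3 : g ^ (orderOf g - 1) * (g * x * g⁻¹) * (g ^ (orderOf g - 1))⁻¹ = x := by
    have h4 : (g ^ (orderOf g - 1))⁻¹ = g := (inv_eq_of_mul_eq_one_right h2)
    have h5 : g⁻¹ = g ^ (orderOf g - 1) := (inv_eq_of_mul_eq_one_left h2)
    rw [h4]
    calc g ^ (orderOf g - 1) * (g * x * g⁻¹) * g = (g ^ (orderOf g - 1) * g) * x * (g⁻¹ * g) := by group
      _ = x := by rw [h2]; simp
  rwa [h3] at h1

theorem odd_no_invert {b w : G} (hb : Odd (orderOf b)) (hw : Odd (orderOf w))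
    (h : b * w * b⁻¹ = w⁻¹) : w = 1 := by
  have h3 : b ^ 2 * w * (b ^ 2)⁻¹ = w := by
    have e : b ^ 2 * w * (b ^ 2)⁻¹ = b * (b * w * b⁻¹) * b⁻¹ := by
      simp only [pow_two, mul_inv_rev, mul_assoc]
    rw [e, h]
    have e2 : b * w⁻¹ * b⁻¹ = (b * w * b⁻¹)⁻¹ := by simp only [mul_inv_rev, inv_inv, mul_assoc]
    rw [e2, h, inv_inv]
  have h5 : b ^ 2 * w = w * b ^ 2 := by
    calc b ^ 2 * w = (b ^ 2 * w * (b ^ 2)⁻¹) * b ^ 2 := by
          simp only [mul_assoc, inv_mul_cancel, mul_one]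
      _ = w * b ^ 2 := by rw [h3]
  have h2 : w * b ^ 2 * w⁻¹ = b ^ 2 := by
    rw [← h5]; simp only [mul_assoc, mul_inv_cancel, mul_one]
  obtain ⟨k, hk⟩ := hb
  have hb2 : b ∈ zpowers (b ^ 2) := by
    refine Subgroup.mem_zpowers_iff.2 ⟨((k + 1 : ℕ) : ℤ), ?_⟩
    rw [zpow_natCast, ← pow_mul]
    have : 2 * (k + 1) = orderOf b + 1 := by omega
    rw [this, pow_succ, pow_orderOf_eq_one, one_mul]
  have h3 := comm_of_zpowers h2 hb2
  have h4 : b * w * b⁻¹ = w := by
    have h5 : w * b = b * w := by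
      calc w * b = (w * b * w⁻¹) * w := by group
        _ = b * w := by rw [h3]
    rw [← h5]; group
  exact odd_eq_one_of_self_inv hw h h4

namespace Data

variable (D : Data p G Q y)
include D

theorem odd_of_isP {K : Subgroup G} (hK : IsPGroup p K) {x : G} (hx : x ∈ K) : Odd (orderOf x) := by
  have hpp := D.hp
  haveI := Fact.mk hpp
  obtain ⟨n, hn⟩ := IsPGroup.iff_card.1 hK
  have h1 : orderOf (⟨x, hx⟩ : K) ∣ Nat.card K := orderOf_dvd_natCard _
  rw [Subgroup.orderOf_mk, hn] at h1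
  exact Odd.of_dvd_nat (Odd.pow (hpp.odd_of_ne_two D.hp2)) h1

theorem act_trivial {U : Subgroup G} (hU : IsPGroup 2 U) {g : G} (hg : g ∈ normalizer (U : Set G))
    (hodd : Odd (orderOf g)) (h : Nat.card U < p + 1 ∨ ∃ u ∈ U, u ≠ 1 ∧ g * u * g⁻¹ = u) :
    ∀ u ∈ U, g * u * g⁻¹ = u := by
  classical
  by_cases hU1 : U = ⊥
  · subst hU1; intro u hu; rw [mem_bot] at hu; subst hu; simp
  have hpp := D.hp
  haveI := Fact.mk hpp
  have hK : IsPGroup p (zpowers g) :=
    D.isP_of_norm_two (by rwa [Nat.card_zpowers]) hU hU1 (by rw [zpowers_le]; exact hg)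
  obtain ⟨n, hn⟩ : ∃ n, g ^ p ^ n = 1 := by
    obtain ⟨n, hn⟩ := IsPGroup.iff_card.1 hK
    refine ⟨n, ?_⟩
    rw [Nat.card_zpowers] at hn; rw [← hn]; exact pow_orderOf_eq_one g
  haveI : Fintype U := Fintype.ofFinite _
  let f : Function.End U := fun u => ⟨g * u * g⁻¹, (mem_normalizer_iff.1 hg u).1 u.2⟩
  have hfk : ∀ k : ℕ, ∀ u : U, ((f ^ k) u : G) = g ^ k * u * (g ^ k)⁻¹ := by
    intro k
    induction k with
    | zero => intro u; simp; rfl
    | succ k ih =>
      intro u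
      rw [pow_succ']
      show g * ((f ^ k) u : G) * g⁻¹ = _
      rw [ih u, pow_succ']; group
  have hf1 : f ^ p ^ n = 1 := by
    funext u
    apply Subtype.ext
    rw [hfk, hn]; simp; rfl
  have hmod := Equiv.Perm.card_fixedPoints_modEq hf1
  by_contra hcon
  push Not at hcon
  obtain ⟨u0, hu0, hu0f⟩ := hcon
  have hnotfix : (⟨u0, hu0⟩ : U) ∉ Function.fixedPoints f := by
    intro hfix
    apply hu0f
    have := congrArg Subtype.val hfix
    exact this
  have hlt : Fintype.card (Function.fixedPoints f) < Fintype.card U :=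
    Fintype.card_subtype_lt hnotfix
  have hdvd : p ∣ Fintype.card U - Fintype.card (Function.fixedPoints f) :=
    (Nat.modEq_iff_dvd' hlt.le).1 hmod.symm
  have hple : p ≤ Fintype.card U - Fintype.card (Function.fixedPoints f) :=
    Nat.le_of_dvd (by omega) hdvd
  have h1fix : (1 : U) ∈ Function.fixedPoints f := by
    apply Subtype.ext
    show g * ((1 : U) : G) * g⁻¹ = ((1 : U) : G)
    simp
  have hpos : 0 < Fintype.card (Function.fixedPoints f) :=
    Fintype.card_pos_iff.2 ⟨⟨1, h1fix⟩⟩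
  have hcard : Nat.card U = Fintype.card U := Nat.card_eq_fintype_card
  rcases h with h | ⟨u, hu, hu1, huf⟩
  · omega
  · have hufix : (⟨u, hu⟩ : U) ∈ Function.fixedPoints f := by
      apply Subtype.ext
      exact huf
    have h2 : 1 < Fintype.card (Function.fixedPoints f) := by
      refine Fintype.one_lt_card_iff.2 ⟨⟨1, h1fix⟩, ⟨⟨u, hu⟩, hufix⟩, ?_⟩
      intro h
      apply hu1
      have := congrArg (fun z => ((z : U) : G)) (congrArg Subtype.val h)
      exact this.symm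
    have h3 := D.card_two_le hU
    omega

omit D in
theorem norm_map {L : Subgroup G} {S : Subgroup L} {x : L}
    (hx : x ∈ normalizer (S : Set L)) : (x : G) ∈ normalizer ((S.map L.subtype : Subgroup G) : Set G) := by
  apply mem_normalizer_of_conj_mem
  rintro z ⟨s, hs, rfl⟩
  exact ⟨x * s * x⁻¹, (mem_normalizer_iff.1 hx s).1 hs, by simp⟩

theorem nc_lemma (L : Subgroup G)
    (hact : ∀ S : Sylow 2 L, ∀ g ∈ L, g ∈ normalizer (((S : Subgroup L).map L.subtype : Subgroup G) : Set G) →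
      Odd (orderOf g) → ∀ u ∈ (S : Subgroup L).map L.subtype, g * u * g⁻¹ = u) :
    ∃ K : Subgroup G, K ≤ L ∧ Odd (Nat.card K) ∧ (∀ x, x ∈ K ↔ x ∈ L ∧ Odd (orderOf x)) := by
  classical
  let S : Sylow 2 L := default
  let S' : Subgroup G := (S : Subgroup L).map L.subtype
  have hS' : IsPGroup 2 S' := S.isPGroup'.map _
  have hnc : normalizer ((S : Subgroup L) : Set L) ≤ centralizer ((S : Subgroup L) : Set L) := by
    intro n hn
    rw [mem_centralizer_iff]
    intro u hu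
    obtain ⟨a, b, hab, ha, hb, ha2, hbo⟩ := D.decomp (n : G)
    obtain ⟨i, hi⟩ := Subgroup.mem_zpowers_iff.1 ha
    obtain ⟨j, hj⟩ := Subgroup.mem_zpowers_iff.1 hb
    have hai : ((n ^ i : L) : G) = a := by rw [Subgroup.coe_zpow, hi]
    have hbj : ((n ^ j : L) : G) = b := by rw [Subgroup.coe_zpow, hj]
    have hani : n ^ i ∈ normalizer ((S : Subgroup L) : Set L) := zpow_mem hn i
    have hanj : n ^ j ∈ normalizer ((S : Subgroup L) : Set L) := zpow_mem hn j
    have hsq : (n ^ i) ^ 2 = 1 := by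
      apply Subtype.ext
      rw [Subgroup.coe_pow, hai, ha2]; rfl
    have haS : n ^ i ∈ (S : Subgroup L) := by
      apply mem_sylow_of_norm _ hani
      exact isP_zpowers_of_pow (n := 1) (by simpa using hsq)
    have huS : (u : G) ∈ S' := ⟨u, hu, rfl⟩
    have haS' : a ∈ S' := ⟨n ^ i, haS, hai⟩
    have h1 : a * u = u * a := D.two_subgroup_comm hS' haS' huS
    have h2 : b * u * b⁻¹ = u := by
      refine hact S b ?_ ?_ hbo u huS
      · rw [← hbj]; exact (n ^ j).2
      · rw [← hbj]; exact norm_map hanj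
    apply Subtype.ext
    show (u : G) * n = n * u
    rw [hab]
    have h3 : b * u = u * b := by
      calc b * u = (b * u * b⁻¹) * b := by group
        _ = u * b := by rw [h2]
    calc (u : G) * (a * b) = (u * a) * b := by group
      _ = a * (u * b) := by rw [← h1]; group
      _ = a * b * u := by rw [← h3]; group
  let τ := MonoidHom.transferSylow S hnc
  have hcompl := MonoidHom.ker_transferSylow_isComplement' S hnc
  have hcm := hcompl.card_mul
  have hidx := (S : Subgroup L).card_mul_index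
  have hker : Nat.card (τ.ker) = (S : Subgroup L).index := by
    have h0 : 0 < Nat.card (S : Subgroup L) := Nat.card_pos
    have h1 : Nat.card (τ.ker) * Nat.card (S : Subgroup L) = Nat.card (S : Subgroup L) * (S : Subgroup L).index := by
      rw [hidx]; exact hcm
    rw [mul_comm] at h1
    exact Nat.eq_of_mul_eq_mul_left h0 h1
  have hkodd : Odd (Nat.card τ.ker) := by
    rw [hker, ← Nat.not_even_iff_odd, even_iff_two_dvd]
    exact S.not_dvd_index
  refine ⟨τ.ker.map L.subtype, map_subtype_le _, ?_, ?_⟩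
  · rw [Subgroup.card_map_of_injective L.subtype_injective]; exact hkodd
  · intro x
    constructor
    · rintro ⟨k, hk, rfl⟩
      refine ⟨k.2, ?_⟩
      have h1 : orderOf (⟨k, hk⟩ : τ.ker) ∣ Nat.card τ.ker := orderOf_dvd_natCard _
      rw [Subgroup.orderOf_mk] at h1
      have h2 : orderOf ((k : L) : G) = orderOf k := Subgroup.orderOf_coe k
      show Odd (orderOf ((k : L) : G))
      rw [h2]
      exact Odd.of_dvd_nat hkodd h1
    · rintro ⟨hxL, hxo⟩
      refine ⟨⟨x, hxL⟩, ?_, rfl⟩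
      have h1 : orderOf (τ ⟨x, hxL⟩) ∣ orderOf (⟨x, hxL⟩ : L) := orderOf_map_dvd τ _
      have h1' : orderOf (⟨x, hxL⟩ : L) = orderOf x := Subgroup.orderOf_mk x hxL
      rw [h1'] at h1
      have h2 : orderOf (τ ⟨x, hxL⟩) ∣ Nat.card S := orderOf_dvd_natCard _
      obtain ⟨n, hn⟩ := IsPGroup.iff_card.1 S.isPGroup'
      have h2' : orderOf (τ ⟨x, hxL⟩) ∣ 2 ^ n := by
        have h3 : Nat.card S = 2 ^ n := hn
        rwa [h3] at h2
      obtain ⟨j, -, hj⟩ := (Nat.dvd_prime_pow Nat.prime_two).1 h2'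
      have h4 : Odd (orderOf (τ ⟨x, hxL⟩)) := Odd.of_dvd_nat hxo h1
      have h5 : j = 0 := by
        by_contra hj0
        rw [hj] at h4
        exact (Nat.not_even_iff_odd.2 h4) ((Nat.even_pow.2 ⟨even_two, hj0⟩))
      have h6 : orderOf (τ ⟨x, hxL⟩) = 1 := by rw [hj, h5, pow_zero]
      exact MonoidHom.mem_ker.2 (orderOf_eq_one_iff.1 h6)

theorem exists_M {t : G} (ht : IsInv t) :
    ∃ M : Subgroup G, IsPGroup p M ∧ ∀ x, x ∈ M ↔ x * t = t * x ∧ Odd (orderOf x) := by
  let L := centralizer ({t} : Set G)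
  have hact : ∀ S : Sylow 2 L, ∀ g ∈ L, g ∈ normalizer (((S : Subgroup L).map L.subtype : Subgroup G) : Set G) →
      Odd (orderOf g) → ∀ u ∈ (S : Subgroup L).map L.subtype, g * u * g⁻¹ = u := by
    intro S g hgL hgn hgo
    have hS' : IsPGroup 2 ((S : Subgroup L).map L.subtype) := S.isPGroup'.map _
    have htL : t ∈ L := by
      rw [mem_centralizer_singleton_iff]
    have htS : (⟨t, htL⟩ : L) ∈ (S : Subgroup L) := by
      apply mem_sylow_of_norm
      · apply isP_zpowers_of_pow (n := 1)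
        apply Subtype.ext
        simpa using ht.2
      · apply mem_normalizer_of_conj_mem
        intro x hx
        have h1 : (⟨t, htL⟩ : L) * x * (⟨t, htL⟩ : L)⁻¹ = x := by
          apply Subtype.ext
          have h2 := mem_centralizer_singleton_iff.1 x.2
          show t * (x : G) * t⁻¹ = x
          rw [← h2]; group
        rw [h1]; exact hx
    refine D.act_trivial hS' hgn hgo (Or.inr ⟨t, ⟨⟨t, htL⟩, htS, rfl⟩, ht.1, ?_⟩)
    have h2 := mem_centralizer_singleton_iff.1 hgL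
    rw [h2]; group
  obtain ⟨K, hKL, hKo, hK⟩ := D.nc_lemma L hact
  have htn : t ∈ normalizer (K : Set G) := by
    apply mem_normalizer_of_conj_mem
    intro x hx
    have h2 := mem_centralizer_singleton_iff.1 (hKL hx)
    have h3 : t * x * t⁻¹ = x := by rw [← h2]; group
    rw [h3]; exact hx
  refine ⟨K, D.isP_of_inv_norm hKo ht htn, fun x => ?_⟩
  rw [hK x]
  simp only [L, mem_centralizer_singleton_iff]

/-- The odd part of the centralizer of an involution. -/
noncomputable def M {t : G} (ht : IsInv t) : Subgroup G := Classical.choose (D.exists_M ht)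

theorem isP_M {t : G} (ht : IsInv t) : IsPGroup p (D.M ht) := (Classical.choose_spec (D.exists_M ht)).1

theorem mem_M {t : G} (ht : IsInv t) {x : G} : x ∈ D.M ht ↔ x * t = t * x ∧ Odd (orderOf x) :=
  (Classical.choose_spec (D.exists_M ht)).2 x

theorem M_comm {t : G} (ht : IsInv t) {a b : G} (ha : a ∈ D.M ht) (hb : b ∈ D.M ht) : a * b = b * a := by
  have hpp := D.hp
  haveI := Fact.mk hpp
  obtain ⟨T, hT⟩ := (D.isP_M ht).exists_le_sylow
  exact D.ab T a (hT ha) b (hT hb)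

theorem no_full_sylow {t w : G} (ht : IsInv t) (hw1 : w ≠ 1) (hwo : Odd (orderOf w))
    (hinv : t * w * t⁻¹ = w⁻¹) (U : Sylow 2 G) (hU : ∀ u ∈ (U : Subgroup G), u * w = w * u) : False := by
  classical
  have htinv : t⁻¹ = t := by
    have := ht.2; rw [pow_two] at this; exact inv_eq_of_mul_eq_one_left this
  let K := centralizer ({w} : Set G)
  have hUK : (U : Subgroup G) ≤ K := fun u hu => by
    rw [mem_centralizer_singleton_iff]; exact hU u hu
  let U' : Sylow 2 G := t • U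
  have hU'K : (U' : Subgroup G) ≤ K := by
    intro v hv
    rw [mem_centralizer_singleton_iff]
    have h1 := hU _ (mem_smul_sylow.1 hv)
    obtain ⟨u, hu⟩ : ∃ u, u = t⁻¹ * v * t := ⟨_, rfl⟩
    rw [← hu] at h1
    have hvu : v = t * u * t⁻¹ := by rw [hu]; group
    have h5 : u * w⁻¹ = w⁻¹ * u := Commute.inv_right h1
    have h2 : w = t * w⁻¹ * t⁻¹ := by
      have := congrArg (·⁻¹) hinv
      simpa [mul_assoc] using this.symm
    calc v * w = (t * u * t⁻¹) * (t * w⁻¹ * t⁻¹) := by rw [← h2, ← hvu]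
      _ = t * (u * w⁻¹) * t⁻¹ := by group
      _ = t * (w⁻¹ * u) * t⁻¹ := by rw [h5]
      _ = (t * w⁻¹ * t⁻¹) * (t * u * t⁻¹) := by group
      _ = w * v := by rw [← h2, ← hvu]
  let P1 : Sylow 2 K := U.subtype hUK
  let P2 : Sylow 2 K := U'.subtype hU'K
  obtain ⟨c, hc⟩ := MulAction.exists_smul_eq K P1 P2
  have hcU : ∀ u ∈ (U : Subgroup G), (c : G) * u * (c : G)⁻¹ ∈ (U' : Subgroup G) := by
    intro u hu
    have h1 : (⟨u, hUK hu⟩ : K) ∈ (P1 : Subgroup K) := by
      show (⟨u, hUK hu⟩ : K) ∈ ((U.subtype hUK : Sylow 2 K) : Subgroup K)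
      rw [Sylow.coe_subtype]
      exact hu
    have h2 : c * (⟨u, hUK hu⟩ : K) * c⁻¹ ∈ ((c • P1 : Sylow 2 K) : Subgroup K) :=
      conj_mem_smul_sylow h1
    rw [hc] at h2
    show _ ∈ (U' : Subgroup G)
    have h3 : c * (⟨u, hUK hu⟩ : K) * c⁻¹ ∈ ((U'.subtype hU'K : Sylow 2 K) : Subgroup K) := h2
    rw [Sylow.coe_subtype] at h3
    exact h3
  have hEq : ((c : G) • U : Sylow 2 G) = U' := by
    apply sylow_eq_of_le
    intro v hv
    have h1 := hcU _ (mem_smul_sylow.1 hv)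
    have h2 : (c : G) * ((c : G)⁻¹ * v * c) * (c : G)⁻¹ = v := by group
    rwa [h2] at h1
  have hxn : (t⁻¹ * c : G) • U = U := by
    rw [mul_smul, hEq]
    simp [U']
  have hxN : (t⁻¹ * c : G) ∈ normalizer ((U : Subgroup G) : Set G) :=
    Sylow.smul_eq_iff_mem_normalizer.1 hxn
  set x : G := t⁻¹ * c with hx
  have hcw : (c : G) * w * (c : G)⁻¹ = w := by
    have := mem_centralizer_singleton_iff.1 c.2
    rw [this]; group
  have hxw : x * w * x⁻¹ = w⁻¹ := by
    have h1 : x * w * x⁻¹ = t⁻¹ * ((c : G) * w * (c : G)⁻¹) * t := by rw [hx]; group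
    rw [h1, hcw, htinv, ← hinv, htinv]
  obtain ⟨a, b, hab, ha, hb, ha2, hbo⟩ := D.decomp x
  have han : a ∈ normalizer ((U : Subgroup G) : Set G) := by
    obtain ⟨i, rfl⟩ := Subgroup.mem_zpowers_iff.1 ha
    exact zpow_mem hxN i
  have haU : a ∈ (U : Subgroup G) :=
    mem_sylow_of_norm (isP_zpowers_of_pow (n := 1) (by simpa using ha2)) han
  have haw : a * w = w * a := hU a haU
  have hbw : b * w * b⁻¹ = w⁻¹ := by
    have h1 : a * (b * w * b⁻¹) * a⁻¹ = w⁻¹ := by
      rw [← hxw, hab]; group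
    have h2 : a * w⁻¹ * a⁻¹ = w⁻¹ := by
      have h3 : a * w⁻¹ = w⁻¹ * a := by
        calc a * w⁻¹ = w⁻¹ * (w * a) * w⁻¹ := by group
          _ = w⁻¹ * (a * w) * w⁻¹ := by rw [haw]
          _ = w⁻¹ * a := by group
      rw [h3]; group
    calc b * w * b⁻¹ = a⁻¹ * (a * (b * w * b⁻¹) * a⁻¹) * a := by group
      _ = a⁻¹ * w⁻¹ * a := by rw [h1]
      _ = a⁻¹ * (a * w⁻¹ * a⁻¹) * a := by rw [h2]
      _ = w⁻¹ := by group
  exact hw1 (odd_no_invert hbo hwo hbw)

theorem inverted_sylow {t w : G} (ht : IsInv t) (hw1 : w ≠ 1) (hwo : Odd (orderOf w))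
    (hinv : t * w * t⁻¹ = w⁻¹) :
    ∃ T : Sylow p G, w ∈ (T : Subgroup G) ∧ ∀ x, x * w = w * x → Odd (orderOf x) → x ∈ (T : Subgroup G) := by
  have hpp := D.hp
  haveI := Fact.mk hpp
  have htinv : t⁻¹ = t := by
    have := ht.2; rw [pow_two] at this; exact inv_eq_of_mul_eq_one_left this
  let L := centralizer ({w} : Set G)
  have hact : ∀ S : Sylow 2 L, ∀ g ∈ L, g ∈ normalizer (((S : Subgroup L).map L.subtype : Subgroup G) : Set G) →
      Odd (orderOf g) → ∀ u ∈ (S : Subgroup L).map L.subtype, g * u * g⁻¹ = u := by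
    intro S g hgL hgn hgo
    have hS' : IsPGroup 2 ((S : Subgroup L).map L.subtype) := S.isPGroup'.map _
    refine D.act_trivial hS' hgn hgo (Or.inl ?_)
    have h1 := D.card_two_le hS'
    refine lt_of_le_of_ne h1 fun heq => ?_
    obtain ⟨U, hU⟩ := D.exists_sylow_of_card hS' heq.ge
    refine D.no_full_sylow ht hw1 hwo hinv U fun u hu => ?_
    rw [hU] at hu
    obtain ⟨v, -, rfl⟩ := hu
    have := mem_centralizer_singleton_iff.1 v.2
    exact this
  obtain ⟨K, hKL, hKo, hK⟩ := D.nc_lemma L hact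
  have htn : t ∈ normalizer (K : Set G) := by
    apply mem_normalizer_of_conj_mem
    intro x hx
    obtain ⟨hxL, hxo⟩ := (hK x).1 hx
    refine (hK _).2 ⟨?_, ?_⟩
    · rw [mem_centralizer_singleton_iff]
      have h1 : x * w = w * x := mem_centralizer_singleton_iff.1 hxL
      have h2 : x * w⁻¹ = w⁻¹ * x := by
        calc x * w⁻¹ = w⁻¹ * (w * x) * w⁻¹ := by group
          _ = w⁻¹ * (x * w) * w⁻¹ := by rw [h1]
          _ = w⁻¹ * x := by group
      have h3 : w = t * w⁻¹ * t⁻¹ := by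
        have := congrArg (·⁻¹) hinv
        simpa [mul_assoc] using this.symm
      calc t * x * t⁻¹ * w = t * x * t⁻¹ * (t * w⁻¹ * t⁻¹) := by rw [← h3]
        _ = t * (x * w⁻¹) * t⁻¹ := by group
        _ = t * (w⁻¹ * x) * t⁻¹ := by rw [h2]
        _ = (t * w⁻¹ * t⁻¹) * (t * x * t⁻¹) := by group
        _ = w * (t * x * t⁻¹) := by rw [← h3]
    · rw [show t * x * t⁻¹ = (MulAut.conj t) x from rfl, MulEquiv.orderOf_eq]
      exact hxo
  have hKp : IsPGroup p K := D.isP_of_inv_norm hKo ht htn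
  obtain ⟨T, hT⟩ := hKp.exists_le_sylow
  refine ⟨T, hT ((hK w).2 ⟨by rw [mem_centralizer_singleton_iff], hwo⟩), fun x hx hxo => hT ((hK x).2 ⟨?_, hxo⟩)⟩
  rw [mem_centralizer_singleton_iff]; exact hx

theorem sylow_unique {t w : G} (ht : IsInv t) (hw1 : w ≠ 1) (hwo : Odd (orderOf w))
    (hinv : t * w * t⁻¹ = w⁻¹) {T T' : Sylow p G} (h : w ∈ (T : Subgroup G)) (h' : w ∈ (T' : Subgroup G)) :
    T = T' := by
  have hpp := D.hp
  haveI := Fact.mk hpp
  obtain ⟨T0, hw0, hT0⟩ := D.inverted_sylow ht hw1 hwo hinv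
  have key : ∀ T1 : Sylow p G, w ∈ (T1 : Subgroup G) → T1 = T0 := by
    intro T1 h1
    apply sylow_eq_of_le
    intro x hx
    exact hT0 x (D.ab T1 x hx w h1) (D.odd_of_isP T1.isPGroup' hx)
  rw [key T h, key T' h']

theorem inverted_isP {t b : G} (ht : IsInv t) (hb : Odd (orderOf b)) (hinv : t * b * t⁻¹ = b⁻¹) :
    IsPGroup p (zpowers b) := by
  refine D.isP_of_inv_norm (by rwa [Nat.card_zpowers]) ht ?_
  apply mem_normalizer_of_conj_mem
  intro x hx
  rw [inv_of_zpowers hinv hx]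
  exact inv_mem hx

theorem noncomm {t t' : G} (ht : IsInv t) (ht' : IsInv t') (hne : t * t' ≠ t' * t) :
    ∃ a b : G, t * t' = a * b ∧ a ^ 2 = 1 ∧ a * b = b * a ∧ b ≠ 1 ∧ Odd (orderOf b) ∧
      t * b * t⁻¹ = b⁻¹ ∧ t' * b * t'⁻¹ = b⁻¹ ∧ t * a * t⁻¹ = a ∧ t' * a * t'⁻¹ = a ∧
      a ∈ zpowers (t * t') ∧ b ∈ zpowers (t * t') := by
  have h1 : t⁻¹ = t := by
    have := ht.2; rw [pow_two] at this; exact inv_eq_of_mul_eq_one_left this
  have h1' : t'⁻¹ = t' := by
    have := ht'.2; rw [pow_two] at this; exact inv_eq_of_mul_eq_one_left this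
  obtain ⟨a, b, hab, ha, hb, ha2, hbo⟩ := D.decomp (t * t')
  have hci : (t * t')⁻¹ = t' * t := by rw [mul_inv_rev, h1, h1']
  have hc1 : t * (t * t') * t⁻¹ = (t * t')⁻¹ := by
    rw [hci, h1]
    have : t * t = 1 := by rw [← pow_two]; exact ht.2
    calc t * (t * t') * t = (t * t) * t' * t := by group
      _ = t' * t := by rw [this]; simp
  have hc2 : t' * (t * t') * t'⁻¹ = (t * t')⁻¹ := by
    rw [hci]; group
  have ha' : a⁻¹ = a := by rw [pow_two] at ha2; exact inv_eq_of_mul_eq_one_left ha2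
  have hcomm : a * b = b * a := by
    obtain ⟨i, rfl⟩ := Subgroup.mem_zpowers_iff.1 ha
    obtain ⟨j, rfl⟩ := Subgroup.mem_zpowers_iff.1 hb
    rw [← zpow_add, ← zpow_add, add_comm]
  refine ⟨a, b, hab, ha2, hcomm, ?_, hbo, inv_of_zpowers hc1 hb, inv_of_zpowers hc2 hb, ?_, ?_, ha, hb⟩
  · rintro rfl
    apply hne
    rw [mul_one] at hab
    have h3 : (t * t')⁻¹ = t * t' := by rw [hab, ha']
    rw [hci] at h3
    exact h3.symm
  · rw [inv_of_zpowers hc1 ha, ha']
  · rw [inv_of_zpowers hc2 ha, ha']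

theorem mem_Q_of_comm {a : G} (ha : a ^ 2 = 1) (h : ∀ s ∈ (Q : Subgroup G), a * s = s * a) :
    a ∈ (Q : Subgroup G) := by
  apply mem_sylow_of_norm (isP_zpowers_of_pow (n := 1) (by simpa using ha))
  apply mem_normalizer_of_conj_mem
  intro x hx
  have : a * x * a⁻¹ = x := by rw [h x hx]; group
  rw [this]; exact hx

theorem isInv_of_mem_Q {s : G} (hs : s ∈ (Q : Subgroup G)) (h1 : s ≠ 1) : IsInv s := ⟨h1, D.expQ s hs⟩

theorem normal_of_all_comm (h : ∀ a b : G, IsInv a → IsInv b → a * b = b * a) : (Q : Subgroup G).Normal := by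
  refine ⟨fun s hs g => ?_⟩
  by_cases hs1 : s = 1
  · subst hs1; simp [one_mem]
  have hsi : IsInv s := D.isInv_of_mem_Q hs hs1
  have hgs : IsInv (g * s * g⁻¹) := by
    refine ⟨?_, ?_⟩
    · intro h0
      apply hs1
      have : g * s * g⁻¹ = g * 1 * g⁻¹ := by rw [h0]; group
      exact mul_left_cancel (mul_right_cancel this)
    · rw [conj_pow, hsi.2]; group
  refine D.mem_Q_of_comm hgs.2 fun x hx => ?_
  by_cases hx1 : x = 1
  · subst hx1; simp
  exact h _ _ hgs (D.isInv_of_mem_Q hx hx1)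

end Data

end Cfsg.Agent.Lib.MixP
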